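import Cfsg.Agent.Lib.CoThreeUnique.Facts.ElemBase

/-! The normalizer of the subgroup of order sixteen inside the centraliser, and rigidity of two extensions. -/

set_option autoImplicit false
set_option maxRecDepth 100000

namespace CfsgLib.CoThreeUnique.Facts

open CfsgLib.Sporadic.Conway.ThreeOut (GT)
open Subgroup

/-- The intersection of the centraliser and the normalizer. -/
noncomputable abbrev NC : Subgroup GT := Cc ⊓ NE

theorem mem_Cc_iff {g : GT} : g ∈ Cc ↔ g * tM = tM * g := by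
  rw [Subgroup.mem_centralizer_iff]
  exact ⟨fun h => (h tM rfl).symm, fun h x hx => by rw [show x = tM from hx]; exact h.symm⟩

theorem classW_facts {p : ℕ × ℕ} (hp : p ∈ classW) :
    el p.2 ∈ NC ∧ el p.2 * sM * (el p.2)⁻¹ = el p.1 ∧ el p.1 ∈ EM ∧ el p.1 ≠ 1 ∧ el p.1 ≠ tM := by
  have hc := List.all_eq_true.1 class_ok p hp
  simp only [Bool.and_eq_true, eqI_iff, wEl_two, nE_iff, wEl_one, el_tM, el_sM, memEM_iff, Bool.not_eq_true'] at hc
  obtain ⟨⟨⟨⟨⟨h1, h2⟩, h3⟩, h4⟩, h5⟩, h6⟩ := hc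
  refine ⟨⟨mem_Cc_iff.2 h1, h2⟩, by rw [h3, mul_inv_cancel_right], h4, fun h => ?_, fun h => ?_⟩
  · have he : eqI [p.1] [] = true := eqI_iff.2 (by rw [wEl_one, wEl_nil, h])
    exact Bool.false_ne_true (h5.symm.trans he)
  · have he : eqI [p.1] [0] = true := eqI_iff.2 (by rw [wEl_one, wEl_one, el_tM, h])
    exact Bool.false_ne_true (h6.symm.trans he)

theorem sM_ne' : sM ≠ 1 ∧ sM ≠ tM := by
  have h : eqI [1] [] = false ∧ eqI [1] [0] = false := by decide +kernel
  constructor <;> intro hs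
  · have he : eqI [1] [] = true := eqI_iff.2 (by rw [wEl_one, wEl_nil, el_sM, hs])
    exact Bool.false_ne_true (h.1.symm.trans he)
  · have he : eqI [1] [0] = true := eqI_iff.2 (by rw [wEl_one, wEl_one, el_sM, el_tM, hs])
    exact Bool.false_ne_true (h.2.symm.trans he)

/-- An element of `NC` carries `sM` to a listed element. -/
theorem exists_classW {c : GT} (hc : c ∈ NC) : ∃ p ∈ classW, el p.1 = c * sM * c⁻¹ := by
  obtain ⟨a, ha, h⟩ := em_iff.1 ((Subgroup.mem_normalizer_iff.1 hc.2 sM).1 sM_mem_EM)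
  have h' := List.all_eq_true.1 class_cover a ha
  simp only [Bool.or_eq_true, eqI_iff, wEl_one, wEl_nil, el_tM, List.any_eq_true] at h'
  obtain ⟨p, hp, hpa⟩ := h'.resolve_left (by
    rintro (e | e)
    · rw [h] at e
      exact sM_ne'.1 (conj_eq_one_iff.1 e)
    · rw [h] at e
      refine sM_ne'.2 ?_
      have := congrArg (fun z => c⁻¹ * z * c) e
      simp only [mul_assoc, inv_mul_cancel_left, inv_mul_cancel, mul_one] at this
      rw [this, ← mem_Cc_iff.1 hc.1, inv_mul_cancel_left])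
  exact ⟨p, hp, hpa.symm.trans h⟩

/-- An element of `NC` fixing `sM` lies in `N1`. -/
theorem mem_N1_of_fix {c : GT} (hc : c ∈ NC) (h : c * sM * c⁻¹ = sM) : c ∈ N1 :=
  ⟨mem_D1.2 ⟨mem_Cc_iff.1 hc.1, mul_inv_eq_iff_eq_mul.1 h⟩, hc.2⟩

theorem N1_le_NC : N1 ≤ NC := fun g hg => ⟨mem_Cc_iff.2 (mem_D1.1 hg.1).1, hg.2⟩

theorem card_NC (hD : Nat.card D1 = 4608) : Nat.card (Cc ⊓ NE : Subgroup GT) = 21504 := by
  classical
  have : Finite GT := CfsgLib.Sporadic.Conway.ThreeOut.finite_GT
  letI : MulAction NC GT := MulAction.compHom GT ((MulAut.conj (G := GT)).comp NC.subtype)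
  have hact : ∀ (c : NC) (x : GT), c • x = (c : GT) * x * (c : GT)⁻¹ := fun c x => rfl
  set L := classW.map fun p => el p.1 with hL
  have horb : MulAction.orbit NC sM = ↑L.toFinset := by
    ext x
    simp only [MulAction.mem_orbit_iff, hact, List.coe_toFinset, Set.mem_setOf_eq, hL, List.mem_map]
    constructor
    · rintro ⟨c, rfl⟩
      exact exists_classW c.2
    · rintro ⟨p, hp, rfl⟩
      obtain ⟨h1, h2, -⟩ := classW_facts hp
      exact ⟨⟨_, h1⟩, h2⟩
  have hLen : L.toFinset.card = 14 := by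
    rw [List.toFinset_card_of_nodup]
    · rw [hL, List.length_map]
      exact beq_iff_eq.1 (Bool.and_eq_true _ _ ▸ class_distinct).1
    · have e : L = (classW.map Prod.fst).map el := by simp [hL, List.map_map, Function.comp_def]
      rw [e]
      refine List.Nodup.map_on (fun a ha b hb h => ?_) class_nodup
      obtain ⟨p, hp, rfl⟩ := List.mem_map.1 ha
      obtain ⟨q, hq, rfl⟩ := List.mem_map.1 hb
      have hd := List.all_eq_true.1 (List.all_eq_true.1 (Bool.and_eq_true _ _ ▸ class_distinct).2 p hp) q hq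
      rw [Bool.or_eq_true, Bool.not_eq_true'] at hd
      rcases hd with hd | hd
      · exact Nat.eq_of_beq_eq_true hd
      · have he : eqI [p.1] [q.1] = true := eqI_iff.2 (by rw [wEl_one, wEl_one, h])
        exact absurd (hd.symm.trans he) Bool.false_ne_true
  have hstab : MulAction.stabilizer NC sM = N1.subgroupOf NC := by
    ext c
    rw [MulAction.mem_stabilizer_iff, hact, Subgroup.mem_subgroupOf]
    exact ⟨mem_N1_of_fix c.2, fun h => mul_inv_eq_iff_eq_mul.2 (mem_D1.1 h.1).2⟩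
  have hmul := (MulAction.stabilizer NC sM).card_mul_index
  rw [MulAction.index_stabilizer, horb, Set.ncard_coe_finset, hLen, hstab,
    Nat.card_congr (Subgroup.subgroupOfEquivOfLe N1_le_NC).toEquiv, card_N1 hD] at hmul
  show Nat.card NC = 21504
  omega

theorem genA_mem : el genA ∈ NC := by
  have h := gen_inN
  simp only [Bool.and_eq_true, eqI_iff, wEl_two, nE_iff, wEl_one, el_tM] at h
  exact ⟨mem_Cc_iff.2 h.1.1.1, h.1.1.2⟩

theorem genB_mem : el genB ∈ NC := by
  have h := gen_inN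
  simp only [Bool.and_eq_true, eqI_iff, wEl_two, nE_iff, wEl_one, el_tM] at h
  exact ⟨mem_Cc_iff.2 h.1.2, h.2⟩

theorem genAinv_eq : el genAinv = (el genA)⁻¹ := by
  refine (inv_eq_of_mul_eq_one_right ?_).symm
  rw [← wEl_two, eqI_iff.1 gen_inv, wEl_nil]

theorem wEl_mem_closure : ∀ {w : List ℕ}, (∀ a ∈ w, el a ∈ closure ({el genA, el genB} : Set GT)) →
    wEl w ∈ closure ({el genA, el genB} : Set GT)
  | [], _ => by rw [wEl_nil]; exact one_mem _
  | a :: w, h => by
    rw [wEl_cons]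
    exact mul_mem (h a List.mem_cons_self) (wEl_mem_closure fun b hb => h b (List.mem_cons_of_mem _ hb))

theorem NC_le_closure (hD : Nat.card D1 = 4608) : NC ≤ closure ({el genA, el genB} : Set GT) := by
  have hgen : ∀ a ∈ levN.flatten ++ classW.map Prod.snd, el a ∈ closure ({el genA, el genB} : Set GT) := by
    intro a ha
    obtain ⟨p, hp, hpa⟩ := List.any_eq_true.1 (List.all_eq_true.1 genW_cover a ha)
    have h := List.all_eq_true.1 genW_ok p hp
    simp only [Bool.and_eq_true, eqI_iff, wEl_one, List.all_eq_true, Bool.or_eq_true] at h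
    rw [← Nat.eq_of_beq_eq_true hpa, h.1]
    refine wEl_mem_closure fun b hb => ?_
    rcases h.2 b hb with (e | e) | e <;> rw [Nat.eq_of_beq_eq_true e]
    · exact subset_closure (Or.inl rfl)
    · exact subset_closure (Or.inr rfl)
    · rw [genAinv_eq]
      exact inv_mem (subset_closure (Or.inl rfl))
  intro c hc
  obtain ⟨p, hp, hpc⟩ := exists_classW hc
  obtain ⟨hp1, hp2, -⟩ := classW_facts hp
  have hn : (el p.2)⁻¹ * c ∈ N1 := by
    refine mem_N1_of_fix (mul_mem (inv_mem hp1) hc) ?_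
    rw [show (el p.2)⁻¹ * c * sM * ((el p.2)⁻¹ * c)⁻¹ = (el p.2)⁻¹ * (c * sM * c⁻¹) * el p.2 by group, ← hpc, ← hp2]
    group
  obtain ⟨w, hw, he⟩ := N1_tuple hD hn
  have hwm : wEl w ∈ closure ({el genA, el genB} : Set GT) := wEl_tuple_mem
    (fun l hl a ha => hgen a (List.mem_append_left _ (List.mem_flatten.2 ⟨l, hl, ha⟩))) w hw
  have := mul_mem (hgen p.2 (List.mem_append_right _ (List.mem_map.2 ⟨p, hp, rfl⟩))) hwm
  rwa [he, mul_inv_cancel_left] at this

/-- Letters of relators. -/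
noncomputable def letterNC (b : ℕ) : NC :=
  if b == 0 then ⟨el genA, genA_mem⟩ else if b == 1 then ⟨el genB, genB_mem⟩ else ⟨el genA, genA_mem⟩⁻¹

theorem gauge (hD : Nat.card D1 = 4608) :
    ∀ α : (Cc ⊓ NE : Subgroup GT) ≃* (Cc ⊓ NE : Subgroup GT),
    (∀ q : (Cc ⊓ NE : Subgroup GT), (q : GT) ∈ EM → α q = q) →
    (∀ q : (Cc ⊓ NE : Subgroup GT), (q : GT)⁻¹ * α q ∈ EM) →
    ∃ f ∈ EM, ∀ q : (Cc ⊓ NE : Subgroup GT), (α q : GT) = f * q * f⁻¹ := by
  intro α _ hq
  obtain ⟨f0, hf0, h0⟩ := em_iff.1 (hq ⟨el genA, genA_mem⟩)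
  obtain ⟨f1, hf1, h1⟩ := em_iff.1 (hq ⟨el genB, genB_mem⟩)
  have hA : (α ⟨el genA, genA_mem⟩ : GT) = el genA * el f0 := by rw [h0]; exact (mul_inv_cancel_left _ _).symm
  have hB : (α ⟨el genB, genB_mem⟩ : GT) = el genB * el f1 := by rw [h1]; exact (mul_inv_cancel_left _ _).symm
  have hf0inv : (el f0)⁻¹ = el f0 := inv_eq_of_mul_eq_one_right (sq_EM _ (em_iff.2 ⟨f0, hf0, rfl⟩))
  have hsrc : ∀ r : List ℕ, ((r.map letterNC).prod : GT) = wEl (relWord r) ∧
      ((α (r.map letterNC).prod : NC) : GT) = wEl (twist f0 f1 r) := by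
    intro r
    induction r with
    | nil => exact ⟨by simp [relWord, wEl_nil], by simp [twist, wEl_nil]⟩
    | cons b r ih =>
      rw [List.map_cons, List.prod_cons, map_mul, Subgroup.coe_mul, Subgroup.coe_mul, ih.1, ih.2,
        show relWord (b :: r) = (if b == 0 then genA else if b == 1 then genB else genAinv) :: relWord r from rfl,
        show twist f0 f1 (b :: r) = (if b == 0 then [genA, f0] else if b == 1 then [genB, f1] else [f0, genAinv]) ++
          twist f0 f1 r from rfl, wEl_cons, wEl_append, letterNC]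
      by_cases hb0 : (b == 0) = true
      · simp only [hb0, if_true, wEl_two, hA]
        exact ⟨trivial, trivial⟩
      · by_cases hb1 : (b == 1) = true
        · simp only [hb0, hb1, if_true, if_false, wEl_two, hB, Bool.false_eq_true]
          exact ⟨trivial, trivial⟩
        · simp only [hb0, hb1, if_false, wEl_two, map_inv, Subgroup.coe_inv, hA, genAinv_eq, mul_inv_rev, hf0inv,
            Bool.false_eq_true]
          exact ⟨trivial, trivial⟩
  have hrel : (relW.all fun r => eqP (twist f0 f1 r) []) = true := by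
    refine List.all_eq_true.2 fun r hr => eqP_of_eq ?_
    have hone : (r.map letterNC).prod = 1 := Subtype.ext (by
      rw [(hsrc r).1, eqI_iff.1 (List.all_eq_true.1 rel_ok r hr), wEl_nil]
      rfl)
    rw [← (hsrc r).2, hone, map_one, wEl_nil]
    rfl
  have hg := List.all_eq_true.1 (List.all_eq_true.1 gauge_ok f0 hf0) f1 hf1
  rw [Bool.or_eq_true, hrel] at hg
  obtain ⟨f, hf, hff⟩ := List.any_eq_true.1 (hg.resolve_left (by simp))
  simp only [Bool.and_eq_true, eqI_iff, wEl_three, wEl_two] at hff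
  have hfE : el f ∈ EM := em_iff.2 ⟨f, hf, rfl⟩
  refine ⟨el f, hfE, fun q => ?_⟩
  have key : ∀ g ∈ closure ({el genA, el genB} : Set GT), ∃ h : g ∈ NC, (α ⟨g, h⟩ : GT) = el f * g * (el f)⁻¹ := by
    intro g hg
    induction hg using Subgroup.closure_induction with
    | mem x hx =>
      rcases hx with rfl | rfl
      · exact ⟨genA_mem, by rw [hA, eq_mul_inv_iff_mul_eq]; exact hff.1⟩
      · exact ⟨genB_mem, by rw [hB, eq_mul_inv_iff_mul_eq]; exact hff.2⟩
    | one => exact ⟨one_mem _, by rw [show (⟨1, one_mem _⟩ : NC) = 1 from rfl, map_one]; simp⟩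
    | mul x y _ _ hx hy =>
      obtain ⟨hx, ex⟩ := hx
      obtain ⟨hy, ey⟩ := hy
      refine ⟨mul_mem hx hy, ?_⟩
      rw [show (⟨x * y, mul_mem hx hy⟩ : NC) = ⟨x, hx⟩ * ⟨y, hy⟩ from rfl, map_mul, Subgroup.coe_mul, ex, ey]
      group
    | inv x _ hx =>
      obtain ⟨hx, ex⟩ := hx
      refine ⟨inv_mem hx, ?_⟩
      rw [show (⟨x⁻¹, inv_mem hx⟩ : NC) = ⟨x, hx⟩⁻¹ from rfl, map_inv, Subgroup.coe_inv, ex]
      group
  obtain ⟨_, e⟩ := key q (NC_le_closure hD q.2)
  exact e

theorem phi_unique (hD : Nat.card D1 = 4608) :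
    ∀ α : D1 ≃* D1, (∀ d : D1, (d : GT) ∈ NE → α d = d) → ∀ d : D1, α d = d := by
  intro α hfix
  have : Finite GT := CfsgLib.Sporadic.Conway.ThreeOut.finite_GT
  obtain ⟨hd0, hdn, -⟩ := dOut_facts
  obtain ⟨w, hw, hwd⟩ := D1_tuple hD (α ⟨el dOut, hd0⟩).2
  have hN : ∀ a ∈ powP :: (conjP ++ sandP).flatMap (fun p => [p.1, p.2]), ∃ h : el a ∈ D1, α ⟨el a, h⟩ = ⟨el a, h⟩ :=
    fun a ha => by
      have h := List.all_eq_true.1 phi_const a ha
      rw [Bool.and_eq_true, nE_iff, wEl_one] at h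
      exact ⟨inD_mem h.1, hfix _ h.2⟩
  have hd := phi_dOut
  simp only [phiCond, Bool.and_eq_true, List.all_eq_true] at hd
  have hP : ∀ {a b : List ℕ}, eqP a b = true → wEl a ∈ D1 → wEl b ∈ D1 → wEl a = wEl b := by
    intro a b h ha hb
    obtain ⟨u, hu, hu'⟩ := D1_tuple hD ha
    obtain ⟨v, hv, hv'⟩ := D1_tuple hD hb
    rw [← hu', ← hv']
    refine tuples_sig levD_ok u hu v hv fun i hi hlt => ?_
    have hpr : i ∈ probe := List.mem_of_elem_eq_true (List.all_eq_true.1
      (show (baseD.all fun i => probe.elem i) = true by decide +kernel) i hi)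
    refine Fin.ext ?_
    rw [hu', hv', rho_wEl, rho_wEl]
    exact Nat.eq_of_beq_eq_true (List.all_eq_true.1 h i hpr)
  have hy : (phiCond w) = true := by
    simp only [phiCond, Bool.and_eq_true, List.all_eq_true]
    set d : D1 := ⟨el dOut, hd0⟩
    refine ⟨⟨fun p hp => ?_, ?_⟩, fun p hp => ?_⟩
    · obtain ⟨ha, ea⟩ := hN p.1 (by simp only [List.mem_cons, List.mem_flatMap, List.mem_append]; exact Or.inr ⟨p, Or.inl hp, by simp⟩)
      obtain ⟨hb, eb⟩ := hN p.2 (by simp only [List.mem_cons, List.mem_flatMap, List.mem_append]; exact Or.inr ⟨p, Or.inl hp, by simp⟩)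
      have he : el dOut * el p.1 = el p.2 * el dOut := by
        have := hP (hd.1.1 p hp) (by rw [wEl_append, wEl_one, wEl_one]; exact mul_mem hd0 ha)
          (by rw [wEl_cons, wEl_one]; exact mul_mem hb hd0)
        rwa [wEl_append, wEl_one, wEl_one, wEl_cons, wEl_one] at this
      have := congrArg (fun z => ((α z : D1) : GT)) (Subtype.ext he : d * ⟨el p.1, ha⟩ = ⟨el p.2, hb⟩ * d)
      simp only [map_mul, ea, eb, Subgroup.coe_mul, ← hwd] at this
      exact eqP_of_eq (by rw [wEl_append, wEl_one, wEl_cons]; exact this)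
    · obtain ⟨ha, ea⟩ := hN powP List.mem_cons_self
      have he : el dOut * el dOut * el dOut = el powP := by
        have := hP hd.1.2 (by rw [wEl_append, wEl_append, wEl_one]; exact mul_mem (mul_mem hd0 hd0) hd0)
          (by rw [wEl_one]; exact ha)
        rwa [wEl_append, wEl_append, wEl_one, wEl_one] at this
      have := congrArg (fun z => ((α z : D1) : GT)) (Subtype.ext he : d * d * d = ⟨el powP, ha⟩)
      simp only [map_mul, ea, Subgroup.coe_mul, ← hwd] at this
      exact eqP_of_eq (by rw [wEl_append, wEl_append, wEl_one]; exact this)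
    · obtain ⟨ha, ea⟩ := hN p.1 (by simp only [List.mem_cons, List.mem_flatMap, List.mem_append]; exact Or.inr ⟨p, Or.inr hp, by simp⟩)
      obtain ⟨hb, eb⟩ := hN p.2 (by simp only [List.mem_cons, List.mem_flatMap, List.mem_append]; exact Or.inr ⟨p, Or.inr hp, by simp⟩)
      have he : el dOut * el p.1 * el dOut = el p.2 := by
        have := hP (hd.2 p hp) (by rw [wEl_append, wEl_append, wEl_one, wEl_one]; exact mul_mem (mul_mem hd0 ha) hd0)
          (by rw [wEl_one]; exact hb)
        rwa [wEl_append, wEl_append, wEl_one, wEl_one, wEl_one] at this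
      have := congrArg (fun z => ((α z : D1) : GT)) (Subtype.ext he : d * ⟨el p.1, ha⟩ * d = ⟨el p.2, hb⟩)
      simp only [map_mul, ea, eb, Subgroup.coe_mul, ← hwd] at this
      exact eqP_of_eq (by rw [wEl_append, wEl_append, wEl_one, wEl_one]; exact this)
  have h := List.all_eq_true.1 phi_ok w hw
  rw [hy] at h
  simp only [Bool.not_true, Bool.false_or] at h
  have hdfix : α ⟨el dOut, hd0⟩ = ⟨el dOut, hd0⟩ := Subtype.ext (by rw [← hwd, eqI_iff.1 h, wEl_one])
  let H : Subgroup D1 := α.toMonoidHom.eqLocus (MonoidHom.id D1)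
  have hNH : N1.subgroupOf D1 ≤ H := fun z hz => hfix z (Subgroup.mem_subgroupOf.1 hz).2
  have hnot : (⟨el dOut, hd0⟩ : D1) ∉ N1.subgroupOf D1 := fun h => hdn (Subgroup.mem_subgroupOf.1 h).2
  have hidx := (N1.subgroupOf D1).card_mul_index
  rw [Nat.card_congr (Subgroup.subgroupOfEquivOfLe inf_le_left).toEquiv, card_N1 hD, hD] at hidx
  have hrel := Subgroup.relIndex_mul_index hNH
  have hne : (N1.subgroupOf D1).relIndex H ≠ 1 := fun h1 => hnot (Subgroup.relIndex_eq_one.1 h1 hdfix)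
  have hi3 : (N1.subgroupOf D1).index = 3 := by omega
  rw [hi3] at hrel
  have hH : H.index = 1 := by
    rcases (Nat.dvd_prime Nat.prime_three).1 (hrel ▸ Dvd.intro_left _ rfl : H.index ∣ 3) with h1 | h1
    · exact h1
    · rw [h1] at hrel
      exact absurd (by omega : (N1.subgroupOf D1).relIndex H = 1) hne
  intro d
  have : d ∈ H := by rw [Subgroup.index_eq_one.1 hH]; trivial
  exact this

end CfsgLib.CoThreeUnique.Facts
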