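import Cfsg.Agent.Lib.CoThreeUnique.Facts.ElemUnique
import Cfsg.Agent.Lib.CoThreeUnique.Facts.ElemNormal

/-!
Facts on the subgroup of order sixteen of the third Conway group needed by `ModelFacts`; those depending on
the order of the centraliser of the four group take it as a hypothesis.
-/

set_option autoImplicit false

namespace CfsgLib.CoThreeUnique.Facts

theorem gM_mem : gM ∈ NE := g_facts.1

theorem gM_pow : gM ^ 3 = 1 := g_facts.2.1

theorem gM_tM : gM * tM * gM⁻¹ = tM * sM := g_facts.2.2.1

theorem gM_sM : gM * sM * gM⁻¹ = tM := g_facts.2.2.2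

end CfsgLib.CoThreeUnique.Facts
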