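import Cfsg.Agent.Lib.CoThreeUnique.Facts.Centralizer
import Cfsg.Agent.Lib.CoThreeUnique.Facts.Elementary

/-!
All facts about the model.
-/

set_option autoImplicit false

namespace CfsgLib.CoThreeUnique

theorem modelFacts : ModelFacts where
  order_tM := order_tM
  order_sM := order_sM
  order_eM := order_eM
  card_Cc := card_Cc
  cover := cover
  center_Cc := center_Cc
  sM_mem := sM_mem
  eM_mem := eM_mem
  sM_ne := sM_ne
  eM_ne := eM_ne
  inv_classes := inv_classes
  sM_swap := sM_swap
  eM_swap := eM_swap
  card_D1 := card_D1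
  card_K1 := card_K1
  square_tM := square_tM
  not_square_eM := not_square_eM
  card_EM := Facts.card_EM
  sq_EM := Facts.sq_EM
  tM_mem_EM := Facts.tM_mem_EM
  sM_mem_EM := Facts.sM_mem_EM
  class_EM := Facts.class_EM
  cent_EM := Facts.cent_EM card_D1
  unique_EM := Facts.unique_EM card_D1
  card_NC := Facts.card_NC card_D1
  gauge := Facts.gauge card_D1
  gM_mem := Facts.gM_mem
  gM_pow := Facts.gM_pow
  gM_tM := Facts.gM_tM
  gM_sM := Facts.gM_sM
  phi_unique := Facts.phi_unique card_D1
  order_nM := order_nM
  nM_comm := nM_comm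

end CfsgLib.CoThreeUnique
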