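import Cfsg.Agent.Lib.CoThreeUnique.Model
import Mathlib.GroupTheory.GroupAction.Quotient

/-!
Orders and element lists of subgroups of the third Conway group from packed permutations of the 276 pairs: products
checked point by point, chains of orbits giving lower bounds, and upper bounds from the orbits of the whole group
restricted by commuting permutations.
-/

set_option autoImplicit false
set_option linter.style.haveILetI false

namespace CfsgLib.CoThreeUnique.Facts

open CfsgLib.Sporadic
open CfsgLib.Sporadic.Conway.ThreeOut (GT)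

/-- One level of a chain: the point and the further points of its orbit, each with an earlier position and the
number of a permutation carrying that to it. -/
abbrev Level : Type := ℕ × List (ℕ × ℕ × ℕ)

/-- `g` acts as the packed permutation `c`. -/
def HasCode (g : GT) (c : ℕ) : Prop := ∀ i : Fin 276, (rho g i : ℕ) = pimg c i

/-- `e` is the product of `c` after `d`. -/
noncomputable def compOK (c d e : ℕ) : Bool :=
  (List.range 276).all fun x => Nat.beq (pimg e x) (pimg c (pimg d x))

theorem hasCode_mul {g h : GT} {c d e : ℕ} (hg : HasCode g c) (hh : HasCode h d) (he : compOK c d e = true) :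
    HasCode (g * h) e := fun i => by
  rw [map_mul, Equiv.Perm.mul_apply, hg, hh]
  exact (Nat.eq_of_beq_eq_true (List.all_eq_true.1 he i (List.mem_range.2 i.2))).symm

/-- The check of a list of products. -/
noncomputable def prodsOK (init : List ℕ) (ops : List (ℕ × ℕ)) (codes : List ℕ) : Bool :=
  Nat.beq ops.length codes.length && (List.range codes.length).all fun k =>
    Nat.blt (ops.getD k (0, 0)).1 (init.length + k) && Nat.blt (ops.getD k (0, 0)).2 (init.length + k) &&
      compOK ((init ++ codes).getD (ops.getD k (0, 0)).1 0) ((init ++ codes).getD (ops.getD k (0, 0)).2 0)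
        ((init ++ codes).getD (init.length + k) 0)

theorem exists_of_prods {S : Subgroup GT} {init : List ℕ} {ops : List (ℕ × ℕ)} {codes : List ℕ}
    (h : prodsOK init ops codes = true) (hinit : ∀ c ∈ init, ∃ g ∈ S, HasCode g c) :
    ∀ c ∈ init ++ codes, ∃ g ∈ S, HasCode g c := by
  simp only [prodsOK, Bool.and_eq_true, List.all_eq_true, List.mem_range, Nat.blt_eq] at h
  have key : ∀ k < (init ++ codes).length, ∃ g ∈ S, HasCode g ((init ++ codes).getD k 0) := by
    intro k
    induction k using Nat.strong_induction_on with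
    | _ k ih =>
      intro hk
      rcases Nat.lt_or_ge k init.length with hki | hki
      · rw [List.getD_append _ _ _ _ hki]
        exact hinit _ (List.getD_eq_getElem _ _ hki ▸ List.getElem_mem hki)
      · obtain ⟨j, rfl⟩ := Nat.exists_eq_add_of_le hki
        rw [List.length_append] at hk
        obtain ⟨⟨h1, h2⟩, h3⟩ := h.2 j (by omega)
        obtain ⟨g, hg, hgc⟩ := ih _ h1 (by rw [List.length_append]; omega)
        obtain ⟨g', hg', hgc'⟩ := ih _ h2 (by rw [List.length_append]; omega)
        exact ⟨g * g', S.mul_mem hg hg', hasCode_mul hgc hgc' h3⟩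
  intro c hc
  obtain ⟨k, hk, rfl⟩ := List.getElem_of_mem hc
  rw [← List.getD_eq_getElem _ 0 hk]
  exact key k hk

/-! ### Stabilisers of lists of points -/

/-- The elements fixing the listed pairs. -/
def fixPre (pre : List ℕ) : Subgroup GT where
  carrier := {g | ∀ i : Fin 276, (i : ℕ) ∈ pre → rho g i = i}
  one_mem' i _ := by simp
  mul_mem' {g h} hg hh i hi := by rw [map_mul, Equiv.Perm.mul_apply, hh i hi, hg i hi]
  inv_mem' {g} hg i hi := by
    rw [map_inv, Equiv.Perm.inv_eq_iff_eq, hg i hi]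

theorem mem_fixPre {pre : List ℕ} {g : GT} : g ∈ fixPre pre ↔ ∀ i : Fin 276, (i : ℕ) ∈ pre → rho g i = i :=
  Iff.rfl

theorem fixPre_nil : fixPre [] = ⊤ := eq_top_iff.2 fun g _ i hi => absurd hi (by simp)

theorem fixPre_cons (b : ℕ) (pre : List ℕ) : fixPre (b :: pre) = fixPre [b] ⊓ fixPre pre := by
  ext g
  simp only [mem_fixPre, Subgroup.mem_inf, List.mem_cons, List.not_mem_nil, or_false]
  exact ⟨fun h => ⟨fun i hi => h i (Or.inl hi), fun i hi => h i (Or.inr hi)⟩,
    fun h i hi => hi.elim (h.1 i) (h.2 i)⟩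

/-- The orbit of a pair under a subgroup. -/
def orb (K : Subgroup GT) (b : Fin 276) : Set (Fin 276) := {j | ∃ g ∈ K, rho g b = j}

theorem card_split (K : Subgroup GT) (b : Fin 276) :
    Nat.card K = (orb K b).ncard * Nat.card (K ⊓ fixPre [(b : ℕ)] : Subgroup GT) := by
  letI : MulAction K (Fin 276) := MulAction.compHom _ (rho.comp K.subtype)
  have ho : MulAction.orbit K b = orb K b := by
    ext j
    exact ⟨fun ⟨g, hg⟩ => ⟨g, g.2, hg⟩, fun ⟨g, hg, hgj⟩ => ⟨⟨g, hg⟩, hgj⟩⟩
  have hs : MulAction.stabilizer K b = (K ⊓ fixPre [(b : ℕ)]).subgroupOf K := by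
    ext g
    simp only [MulAction.mem_stabilizer_iff, Subgroup.mem_subgroupOf, Subgroup.mem_inf, SetLike.coe_mem, true_and,
      mem_fixPre, List.mem_cons, List.not_mem_nil, or_false]
    exact ⟨fun h i hi => (Fin.ext hi : i = b) ▸ h, fun h => h b rfl⟩
  rw [← Subgroup.card_mul_index (MulAction.stabilizer K b), MulAction.index_stabilizer, ho, mul_comm, hs,
    Nat.card_congr (Subgroup.subgroupOfEquivOfLe inf_le_left).toEquiv]

theorem fixPre_step (K : Subgroup GT) (b : Fin 276) (pre : List ℕ) :
    K ⊓ fixPre pre ⊓ fixPre [(b : ℕ)] = K ⊓ fixPre ((b : ℕ) :: pre) := by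
  rw [inf_assoc, inf_comm (fixPre pre), ← fixPre_cons (b : ℕ) pre]

/-! ### Chains -/

/-- The points of a level. -/
def pts (L : Level) : List ℕ := L.1 :: L.2.map fun e => e.1

/-- The check of a level. -/
noncomputable def levelOK (codes pre : List ℕ) (L : Level) : Bool :=
  Nat.blt L.1 276 && decide (pts L).Nodup &&
    (List.range L.2.length).all fun k =>
      Nat.blt (L.2.getD k (0, 0, 0)).1 276 && Nat.ble (L.2.getD k (0, 0, 0)).2.1 k &&
        Nat.blt (L.2.getD k (0, 0, 0)).2.2 codes.length &&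
          Nat.beq (pimg (codes.getD (L.2.getD k (0, 0, 0)).2.2 0) ((pts L).getD (L.2.getD k (0, 0, 0)).2.1 0))
            (L.2.getD k (0, 0, 0)).1 &&
            pre.all fun q => Nat.beq (pimg (codes.getD (L.2.getD k (0, 0, 0)).2.2 0) q) q

/-- The check of a chain. -/
noncomputable def chainOK (codes : List ℕ) : List Level → List ℕ → Bool
  | [], _ => true
  | L :: rest, pre => levelOK codes pre L && chainOK codes rest (L.1 :: pre)

/-- The product of the lengths. -/
def total : List Level → ℕ
  | [] => 1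
  | L :: rest => (pts L).length * total rest

/-- The points of a chain, last first. -/
def allPre : List Level → List ℕ → List ℕ
  | [], pre => pre
  | L :: rest, pre => allPre rest (L.1 :: pre)

theorem total_pos : ∀ Ls : List Level, 0 < total Ls
  | [] => Nat.one_pos
  | _ :: rest => Nat.mul_pos (by simp [pts]) (total_pos rest)

/-- The set of the points of a level. -/
def ptSet (L : Level) : Set (Fin 276) := {j | (j : ℕ) ∈ pts L}

theorem level_sub {S : Subgroup GT} {codes pre : List ℕ} {L : Level}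
    (hS : ∀ c ∈ codes, ∃ g ∈ S, HasCode g c) (h : levelOK codes pre L = true) :
    ∃ b : Fin 276, (b : ℕ) = L.1 ∧ ptSet L ⊆ orb (S ⊓ fixPre pre) b ∧ (pts L).length = (ptSet L).ncard := by
  simp only [levelOK, Bool.and_eq_true, List.all_eq_true, List.mem_range, Nat.blt_eq, decide_eq_true_eq] at h
  obtain ⟨⟨hb, hnd⟩, hent⟩ := h
  refine ⟨⟨L.1, hb⟩, rfl, ?_, ?_⟩
  · have key : ∀ k < (pts L).length, ∃ g ∈ S ⊓ fixPre pre, (rho g ⟨L.1, hb⟩ : ℕ) = (pts L).getD k 0 := by
      intro k
      induction k using Nat.strong_induction_on with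
      | _ k ih =>
        intro hk
        cases k with
        | zero => exact ⟨1, one_mem _, by simp [pts]⟩
        | succ k =>
          have hk' : k < L.2.length := by simpa [pts] using hk
          obtain ⟨⟨⟨⟨h1, h2⟩, h3⟩, h4⟩, h5⟩ := hent k hk'
          have h2' : (L.2.getD k (0, 0, 0)).2.1 ≤ k := Nat.le_of_ble_eq_true h2
          obtain ⟨g, hg, hgb⟩ := ih _ (Nat.lt_succ_of_le h2') (by omega)
          obtain ⟨u, hu, huc⟩ := hS _ (List.getD_eq_getElem codes 0 h3 ▸ List.getElem_mem h3)
          have hu' : u ∈ fixPre pre := fun i hi => Fin.ext (by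
            rw [huc]
            exact Nat.eq_of_beq_eq_true (h5 _ hi))
          refine ⟨u * g, mul_mem ⟨hu, hu'⟩ hg, ?_⟩
          rw [map_mul, Equiv.Perm.mul_apply, huc, hgb, Nat.eq_of_beq_eq_true h4]
          simp only [pts, List.getD_cons_succ]
          rw [List.getD_eq_getElem _ _ hk', List.getD_eq_getElem _ _ (by simpa using hk'), List.getElem_map]
    intro j hj
    obtain ⟨k, hk, hkj⟩ := List.getElem_of_mem (show (j : ℕ) ∈ pts L from hj)
    obtain ⟨g, hg, hgb⟩ := key k hk
    exact ⟨g, hg, Fin.ext (by rw [hgb, List.getD_eq_getElem _ _ hk, hkj])⟩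
  · have hlt : ∀ x ∈ pts L, x < 276 := by
      intro x hx
      rcases List.mem_cons.1 hx with rfl | hx
      · exact hb
      · obtain ⟨e, he, rfl⟩ := List.mem_map.1 hx
        obtain ⟨k, hk, rfl⟩ := List.getElem_of_mem he
        have := (hent k hk).1.1.1.1
        rwa [List.getD_eq_getElem _ _ hk] at this
    have e : Fin.val '' ptSet L = ↑(pts L).toFinset := by
      ext x
      simp only [ptSet, Set.mem_image, Set.mem_ofPred_eq, List.coe_toFinset]
      exact ⟨fun ⟨j, hj, hjx⟩ => hjx ▸ hj, fun hx => ⟨⟨x, hlt x hx⟩, hx, rfl⟩⟩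
    rw [← Set.ncard_image_of_injective _ Fin.val_injective, e, Set.ncard_coe_finset,
      List.toFinset_card_of_nodup hnd]

theorem total_le {S : Subgroup GT} {codes : List ℕ} (hS : ∀ c ∈ codes, ∃ g ∈ S, HasCode g c) :
    ∀ (Ls : List Level) (pre : List ℕ), chainOK codes Ls pre = true →
      total Ls ≤ Nat.card (S ⊓ fixPre pre : Subgroup GT)
  | [], pre, _ => by
    have := Conway.ThreeOut.finite_GT
    exact Nat.card_pos
  | L :: rest, pre, h => by
    have := Conway.ThreeOut.finite_GT
    simp only [chainOK, Bool.and_eq_true] at h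
    obtain ⟨b, hb, hsub, hlen⟩ := level_sub hS h.1
    rw [card_split _ b, total, hlen, fixPre_step, hb]
    exact Nat.mul_le_mul (Set.ncard_le_ncard hsub (Set.toFinite _)) (total_le hS rest _ h.2)

/-- Every level holds the full orbit and nothing fixes all points. -/
def Exact (S : Subgroup GT) : List Level → List ℕ → Prop
  | [], pre => S ⊓ fixPre pre = ⊥
  | L :: rest, pre => (∃ b : Fin 276, (b : ℕ) = L.1 ∧ orb (S ⊓ fixPre pre) b = ptSet L) ∧ Exact S rest (L.1 :: pre)

theorem exact_of_card {S : Subgroup GT} {codes : List ℕ} (hS : ∀ c ∈ codes, ∃ g ∈ S, HasCode g c) :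
    ∀ (Ls : List Level) (pre : List ℕ), chainOK codes Ls pre = true →
      Nat.card (S ⊓ fixPre pre : Subgroup GT) ≤ total Ls → Exact S Ls pre
  | [], pre, _, hc => by
    have := Conway.ThreeOut.finite_GT
    exact Subgroup.card_eq_one.1 (le_antisymm hc Nat.card_pos)
  | L :: rest, pre, h, hc => by
    have := Conway.ThreeOut.finite_GT
    simp only [chainOK, Bool.and_eq_true] at h
    obtain ⟨b, hb, hsub, hlen⟩ := level_sub hS h.1
    have h2 := total_le hS rest (L.1 :: pre) h.2
    rw [card_split _ b, total, hlen, fixPre_step, hb] at hc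
    have h1 := Set.ncard_le_ncard hsub (Set.toFinite _)
    have hp := total_pos rest
    have hn : 0 < (ptSet L).ncard := hlen ▸ (by simp [pts])
    have e1 : (orb (S ⊓ fixPre pre) b).ncard ≤ (ptSet L).ncard :=
      Nat.le_of_mul_le_mul_right ((Nat.mul_le_mul_left _ h2).trans hc) hp
    have e2 : Nat.card (S ⊓ fixPre (L.1 :: pre) : Subgroup GT) ≤ total rest :=
      Nat.le_of_mul_le_mul_left ((Nat.mul_le_mul_right _ h1).trans hc) hn
    exact ⟨⟨b, hb, (Set.eq_of_subset_of_ncard_le hsub e1 (Set.toFinite _)).symm⟩, exact_of_card hS rest _ h.2 e2⟩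

theorem eq_bot_of_exact {S : Subgroup GT} : ∀ (Ls : List Level) (pre : List ℕ), Exact S Ls pre →
    S ⊓ fixPre (allPre Ls pre) = ⊥
  | [], _, h => h
  | _ :: rest, _, h => eq_bot_of_exact rest _ h.2

/-- Elements agreeing on the points of an exact chain of the group are equal. -/
theorem eq_of_agree {Ls : List Level} (hE : Exact ⊤ Ls []) {g h : GT}
    (e : ∀ i : Fin 276, (i : ℕ) ∈ allPre Ls [] → (rho g i : ℕ) = rho h i) : g = h := by
  have hm : h⁻¹ * g ∈ (⊤ : Subgroup GT) ⊓ fixPre (allPre Ls []) := ⟨trivial, fun i hi => by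
    rw [map_mul, Equiv.Perm.mul_apply, Fin.ext (e i hi), ← Equiv.Perm.mul_apply, ← map_mul, inv_mul_cancel,
      map_one, Equiv.Perm.one_apply]⟩
  rw [eq_bot_of_exact _ _ hE, Subgroup.mem_bot, inv_mul_eq_one] at hm
  exact hm.symm

/-! ### Upper bounds -/

/-- `c` is a possible image of `b` under a map commuting with the listed permutations and fixing `pre`. -/
noncomputable def allowed (vs pre : List ℕ) (b c : ℕ) : Bool :=
  vs.all fun v => Nat.beq (pimg v b) b == Nat.beq (pimg v c) c &&
    pre.all fun p => !(Nat.beq (pimg v b) p) || Nat.beq (pimg v c) p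

/-- The bound. -/
noncomputable def bound (vs : List ℕ) : List Level → List ℕ → ℕ
  | [], _ => 1
  | L :: rest, pre => ((pts L).filter (allowed vs pre L.1)).length * bound vs rest (L.1 :: pre)

theorem card_le_bound {K : Subgroup GT} {vs : List ℕ}
    (hK : ∀ v ∈ vs, ∃ u : GT, HasCode u v ∧ ∀ g ∈ K, u * g = g * u) :
    ∀ (Ls : List Level) (pre : List ℕ), Exact ⊤ Ls pre →
      Nat.card (K ⊓ fixPre pre : Subgroup GT) ≤ bound vs Ls pre
  | [], pre, h => by
    have h0 : K ⊓ fixPre pre = ⊥ := eq_bot_iff.2 fun g hg => h ▸ ⟨trivial, hg.2⟩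
    rw [h0, Subgroup.card_bot]
    exact le_rfl
  | L :: rest, pre, h => by
    have := Conway.ThreeOut.finite_GT
    obtain ⟨⟨b, hb, hO⟩, hrest⟩ := h
    rw [card_split _ b, fixPre_step, hb, bound]
    refine Nat.mul_le_mul ?_ (card_le_bound hK rest _ hrest)
    have hsub : Fin.val '' orb (K ⊓ fixPre pre) b ⊆ ↑((pts L).filter (allowed vs pre L.1)).toFinset := by
      rintro _ ⟨j, ⟨g, hg, rfl⟩, rfl⟩
      rw [Finset.mem_coe, List.mem_toFinset, List.mem_filter]
      have hmem : rho g b ∈ orb ((⊤ : Subgroup GT) ⊓ fixPre pre) b := ⟨g, ⟨trivial, hg.2⟩, rfl⟩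
      rw [hO] at hmem
      refine ⟨hmem, List.all_eq_true.2 fun v hv => ?_⟩
      obtain ⟨u, hu, hcomm⟩ := hK v hv
      have e : rho u (rho g b) = rho g (rho u b) := by
        rw [← Equiv.Perm.mul_apply, ← map_mul, hcomm g hg.1, map_mul, Equiv.Perm.mul_apply]
      rw [← hb, Bool.and_eq_true, beq_iff_eq, List.all_eq_true, ← hu b, ← hu (rho g b), e]
      refine ⟨?_, fun p hp => ?_⟩
      · rw [Bool.eq_iff_iff]
        simp only [Nat.beq_eq, Fin.val_inj, EmbeddingLike.apply_eq_iff_eq]
      · by_cases hvb : (rho u b : ℕ) = p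
        · rw [hg.2 (rho u b) (hvb ▸ hp), Bool.or_eq_true]
          exact Or.inr (hvb ▸ Nat.beq_refl _)
        · rw [Bool.or_eq_true, Bool.not_eq_true', Bool.eq_false_iff]
          exact Or.inl fun e => hvb (Nat.eq_of_beq_eq_true e)
    rw [← Set.ncard_image_of_injective _ Fin.val_injective]
    refine (Set.ncard_le_ncard hsub (Finset.finite_toSet _)).trans ?_
    rw [Set.ncard_coe_finset]
    exact List.toFinset_card_le _

/-! ### Lists of elements -/

/-- The image of a point under the element with number `n`. -/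
noncomputable def elemPt : List (List ℕ) → ℕ → ℕ → ℕ
  | [], _, x => x
  | R :: rest, n, x => pimg (R.getD (n % R.length) 0) (elemPt rest (n / R.length) x)

/-- The number of elements of a list. -/
def elemCount : List (List ℕ) → ℕ
  | [] => 1
  | R :: rest => R.length * elemCount rest

theorem exists_elem {S : Subgroup GT} : ∀ (Rs : List (List ℕ)),
    (∀ R ∈ Rs, 0 < R.length ∧ ∀ c ∈ R, ∃ g ∈ S, HasCode g c) → ∀ n,
      ∃ g ∈ S, ∀ i : Fin 276, (rho g i : ℕ) = elemPt Rs n i
  | [], _, n => ⟨1, one_mem _, fun i => by simp [elemPt]⟩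
  | R :: rest, hR, n => by
    obtain ⟨hpos, hc⟩ := hR R List.mem_cons_self
    have hlt : n % R.length < R.length := Nat.mod_lt _ hpos
    obtain ⟨u, hu, huc⟩ := hc _ (List.getD_eq_getElem R 0 hlt ▸ List.getElem_mem hlt)
    obtain ⟨g, hg, hgc⟩ := exists_elem rest (fun R hR' => hR R (List.mem_cons_of_mem _ hR')) (n / R.length)
    exact ⟨u * g, mul_mem hu hg, fun i => by rw [map_mul, Equiv.Perm.mul_apply, huc, hgc]; rfl⟩

/-- The check that lists of permutations represent the levels of a chain. -/
noncomputable def repsOK (codes : List ℕ) : List (List ℕ) → List Level → List ℕ → Bool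
  | [], [], _ => true
  | R :: Rs, L :: rest, pre =>
    Nat.beq R.length (pts L).length && R.all (fun c => codes.any (Nat.beq c) && pre.all fun q => Nat.beq (pimg c q) q)
      && listEqMap R L.1 (pts L) && repsOK codes Rs rest (L.1 :: pre)
  | _, _, _ => false
where
  /-- The images of a point are as listed. -/
  listEqMap : List ℕ → ℕ → List ℕ → Bool
    | [], _, [] => true
    | c :: cs, b, p :: ps => Nat.beq (pimg c b) p && listEqMap cs b ps
    | _, _, _ => false

theorem listEqMap_spec : ∀ {cs : List ℕ} {b : ℕ} {ps : List ℕ}, repsOK.listEqMap cs b ps = true →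
    ps = cs.map fun c => pimg c b
  | [], _, [], _ => rfl
  | [], _, _ :: _, h => by simp [repsOK.listEqMap] at h
  | _ :: _, _, [], h => by simp [repsOK.listEqMap] at h
  | c :: cs, b, p :: ps, h => by
    simp only [repsOK.listEqMap, Bool.and_eq_true] at h
    rw [List.map_cons, ← listEqMap_spec h.2, Nat.eq_of_beq_eq_true h.1]

theorem exists_number {S : Subgroup GT} {codes : List ℕ} (hS : ∀ c ∈ codes, ∃ g ∈ S, HasCode g c) :
    ∀ (Rs : List (List ℕ)) (Ls : List Level) (pre : List ℕ), repsOK codes Rs Ls pre = true → Exact S Ls pre →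
      ∀ g ∈ S ⊓ fixPre pre, ∃ n < elemCount Rs, ∀ i : Fin 276, (rho g i : ℕ) = elemPt Rs n i
  | [], [], pre, _, hE, g, hg => by
    refine ⟨0, Nat.one_pos, fun i => ?_⟩
    rw [(Subgroup.mem_bot.1 (hE ▸ hg) : g = 1)]
    simp [elemPt]
  | [], _ :: _, _, h, _, _, _ => by simp [repsOK] at h
  | _ :: _, [], _, h, _, _, _ => by simp [repsOK] at h
  | R :: Rs, L :: rest, pre, h, hE, g, hg => by
    obtain ⟨⟨b, hb, hO⟩, hrest⟩ := hE
    simp only [repsOK, Bool.and_eq_true, List.all_eq_true, List.any_eq_true] at h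
    obtain ⟨⟨⟨hlen, hmem⟩, hmap⟩, hreps⟩ := h
    have hpt : rho g b ∈ orb (S ⊓ fixPre pre) b := ⟨g, hg, rfl⟩
    rw [hO] at hpt
    rw [ptSet, Set.mem_ofPred_eq, listEqMap_spec hmap, List.mem_map] at hpt
    obtain ⟨c, hcR, hcb⟩ := hpt
    obtain ⟨⟨c', hc', hcc⟩, hcfix⟩ := hmem c hcR
    rw [← Nat.eq_of_beq_eq_true hcc] at hc'
    obtain ⟨u, hu, huc⟩ := hS c hc'
    have hufix : u ∈ fixPre pre := fun i hi => Fin.ext (by rw [huc]; exact Nat.eq_of_beq_eq_true (hcfix _ hi))
    have hub : rho u b = rho g b := Fin.ext (by rw [huc, hb, hcb])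
    have hrest' : u⁻¹ * g ∈ S ⊓ fixPre (L.1 :: pre) := by
      rw [← hb, ← fixPre_step, Subgroup.mem_inf]
      refine ⟨mul_mem (inv_mem ⟨hu, hufix⟩) hg, fun i hi => ?_⟩
      have : i = b := Fin.ext (by simpa using hi)
      rw [this, map_mul, Equiv.Perm.mul_apply, ← hub, map_inv, ← Equiv.Perm.mul_apply, inv_mul_cancel, Equiv.Perm.one_apply]
    obtain ⟨n, hn, hng⟩ := exists_number hS Rs rest _ hreps hrest _ hrest'
    obtain ⟨k, hk, rfl⟩ := List.getElem_of_mem hcR
    refine ⟨k + R.length * n, ?_, fun i => ?_⟩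
    · rw [elemCount]
      calc k + R.length * n < R.length + R.length * n := Nat.add_lt_add_right hk _
        _ = R.length * (n + 1) := by ring
        _ ≤ R.length * elemCount Rs := Nat.mul_le_mul_left _ hn
    · rw [elemPt, Nat.add_mul_mod_self_left, Nat.mod_eq_of_lt hk,
        Nat.add_mul_div_left _ _ (Nat.zero_lt_of_lt hk), Nat.div_eq_of_lt hk, zero_add,
        List.getD_eq_getElem _ _ hk, ← hng i, ← huc, ← Equiv.Perm.mul_apply, ← map_mul, mul_inv_cancel_left]

end CfsgLib.CoThreeUnique.Facts
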