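import Cfsg.Agent.Lib.CoThreeUnique.Data
import Cfsg.Agent.Lib.CoThreeUnique.Facts.Perm
import Cfsg.Agent.Lib.CoThreeUnique.Facts.CentData

/-!
The kernel computations behind the facts on the centraliser of the central involution: products, chains, bounds and
the table of a Sylow 2-subgroup.
-/

set_option autoImplicit false
set_option maxRecDepth 100000
set_option Elab.async false

namespace CfsgLib.CoThreeUnique.Facts

/-- The two permutations commute. -/
noncomputable def commOK (c d : ℕ) : Bool :=
  (List.range 276).all fun x => Nat.beq (pimg c (pimg d x)) (pimg d (pimg c x))

/-- The generators of the centraliser. -/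
def initX : List ℕ := [Data.x0Code, Data.x1Code, Data.x2Code, Data.x3Code, Data.x4Code, Data.x5Code, Data.x6Code]

/-- All products in the centraliser. -/
def allX : List ℕ := initX ++ CentData.codesX

/-- The generators of the group. -/
def initG : List ℕ := [Data.pA, Data.pB, Data.pZ]

/-- All products in the group. -/
def allG : List ℕ := initG ++ CentData.codesG

/-- The products commuting with a given permutation, the others replaced by the identity. -/
noncomputable def commWith (d : ℕ) : List ℕ := allX.map fun c => bif commOK c d then c else CentData.idCode

/-- The products among the representatives of the Sylow 2-subgroup. -/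
noncomputable def codesP : List ℕ :=
  allX.map fun c => bif CentData.repsP.flatten.any (Nat.beq c) then c else CentData.idCode

/-- The members of the list of lists are among the permutations. -/
noncomputable def memOK (codes : List ℕ) (Rs : List (List ℕ)) : Bool :=
  Rs.all fun R => Nat.blt 0 R.length && R.all fun c => codes.any (Nat.beq c)

/-- The base of the centraliser. -/
def baseC : List ℕ := [0, 38, 26, 23, 16, 15, 14, 12]

/-- The base of the second centraliser. -/
def baseK : List ℕ := [253, 131, 99, 222, 91, 112, 200]

/-- The image of a point under a word. -/
noncomputable def wordPt : List ℕ → ℕ → ℕ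
  | [], x => x
  | k :: ks, x => pimg (CentData.gensP.getD k 0) (wordPt ks x)

/-- The words give the representatives. -/
noncomputable def wordsOK : List ℕ → List (List ℕ) → Bool
  | [], [] => true
  | c :: cs, w :: ws =>
    (w.all fun k => Nat.blt k CentData.gensP.length) && (baseC.all fun b => Nat.beq (wordPt w b) (pimg c b)) &&
      wordsOK cs ws
  | _, _ => false

/-- A row of the table of left multiplication. -/
noncomputable def rowOK (g : ℕ) : List ℕ → ℕ → Bool
  | [], n => Nat.beq n 1024
  | m :: ms, n => Nat.blt m 1024 &&
      (baseC.all fun b => Nat.beq (pimg g (elemPt CentData.repsP n b)) (elemPt CentData.repsP m b)) &&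
      rowOK g ms (n + 1)

/-- The table. -/
noncomputable def tableOK : List ℕ → List (List ℕ) → Bool
  | [], [] => true
  | g :: gs, r :: rs => rowOK g r 0 && tableOK gs rs
  | _, _ => false

/-- The element with number `n` squares to one. -/
noncomputable def sqOne (n : ℕ) : Bool :=
  baseC.all fun b => Nat.beq (elemPt CentData.repsP n (elemPt CentData.repsP n b)) b

/-- The class of the involution with number `n`. -/
noncomputable def classOK (n : ℕ) (i : ℕ × ℕ) : Bool :=
  baseC.all fun b =>
    bif Nat.beq i.1 0 then Nat.beq (elemPt CentData.repsP n b) b
    else bif Nat.beq i.1 1 then Nat.beq (elemPt CentData.repsP n b) (pimg Data.tMCode b)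
    else bif Nat.beq i.1 2 then Nat.beq (elemPt CentData.repsP n (elemPt CentData.repsC i.2 b))
      (elemPt CentData.repsC i.2 (pimg Data.sMCode b))
    else Nat.beq (elemPt CentData.repsP n (elemPt CentData.repsC i.2 b))
      (elemPt CentData.repsC i.2 (pimg Data.eMCode b))

/-- The classes of all involutions of the list. -/
noncomputable def involOK : List ℕ → List (ℕ × ℕ) → Bool
  | [], l => l.isEmpty
  | n :: ns, l =>
    bif sqOne n then
      match l with
      | [] => false
      | i :: is => classOK n i && involOK ns is
    else involOK ns l

/-- The element with number `n` carries `c` to `d`. -/
noncomputable def swapOK (n c d : ℕ) : Bool :=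
  baseC.all fun b => Nat.beq (elemPt CentData.repsC n (pimg c b)) (pimg d (elemPt CentData.repsC n b))

theorem id_check : ((List.range 276).all fun i => Nat.beq (pimg CentData.idCode i) i) = true := by decide +kernel

theorem ts_check : compOK Data.tMCode Data.sMCode CentData.tsCode = true := by decide +kernel

theorem te_check : compOK Data.tMCode Data.eMCode CentData.teCode = true := by decide +kernel

theorem commT_check :
    ((Data.sMCode :: Data.eMCode :: initX).all fun c => commOK c Data.tMCode) = true := by decide +kernel

theorem prodsX_check : prodsOK initX CentData.opsX CentData.codesX = true := by decide +kernel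

theorem prodsG_check : prodsOK initG CentData.opsG CentData.codesG = true := by decide +kernel

theorem groupC_check : chainOK allG CentData.groupC [] = true := by decide +kernel

theorem groupD_check : chainOK allG CentData.groupD [] = true := by decide +kernel

theorem groupK_check : chainOK allG CentData.groupK [] = true := by decide +kernel

theorem groups_total : total CentData.groupC = 495766656000 ∧ total CentData.groupD = 495766656000 ∧
    total CentData.groupK = 495766656000 ∧ allPre CentData.groupC [] = baseC ∧
    allPre CentData.groupK [] = baseK := by decide +kernel

theorem boundC_check : bound [Data.tMCode] CentData.groupC [] = 2903040 := by decide +kernel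

theorem boundD_check : bound [Data.tMCode, Data.sMCode, CentData.tsCode] CentData.groupD [] = 4608 := by
  decide +kernel

theorem boundK_check : bound [Data.tMCode, Data.eMCode, CentData.teCode] CentData.groupK [] = 384 := by
  decide +kernel

theorem centC_check : chainOK allX CentData.centC [] = true := by decide +kernel

theorem centD_check : chainOK (commWith Data.sMCode) CentData.centD [] = true := by decide +kernel

theorem centK_check : chainOK (commWith Data.eMCode) CentData.centK [] = true := by decide +kernel

theorem centP_check : chainOK codesP CentData.centP [] = true := by decide +kernel

theorem cents_total : total CentData.centC = 2903040 ∧ total CentData.centD = 4608 ∧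
    total CentData.centK = 384 ∧ total CentData.centP = 1024 ∧ elemCount CentData.repsK = 384 := by decide +kernel

theorem repsC_check : memOK allX CentData.repsC = true := by decide +kernel

theorem repsP_check : memOK allX CentData.repsP = true := by decide +kernel

theorem gensP_check : memOK allX [CentData.gensP] = true := by decide +kernel

theorem repsK_check : repsOK (commWith Data.eMCode) CentData.repsK CentData.centK [] = true := by decide +kernel

theorem wordsP_check : wordsOK CentData.repsP.flatten CentData.wordsP = true := by decide +kernel

theorem tableP_check : tableOK CentData.gensP CentData.leftP = true := by decide +kernel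

theorem zeroP_check : (baseC.all fun b => Nat.beq (elemPt CentData.repsP 0 b) b) = true := by decide +kernel

theorem involP_check : involOK (List.range 1024) CentData.involP = true := by decide +kernel

theorem swaps_check : (swapOK CentData.swapS Data.sMCode CentData.tsCode &&
    swapOK CentData.swapE Data.eMCode CentData.teCode) = true := by decide +kernel

theorem noRoot_check : ((List.range 384).all fun n =>
    !(baseK.all fun b => Nat.beq (elemPt CentData.repsK n (elemPt CentData.repsK n b)) (pimg Data.eMCode b))) = true := by
  decide +kernel

theorem rootT_check : (baseK.all fun b => Nat.beq (elemPt CentData.repsK CentData.rootT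
    (elemPt CentData.repsK CentData.rootT b)) (pimg Data.tMCode b)) = true := by decide +kernel

theorem nM_check : (Nat.beq (pimg Data.nMCode 0) 0 == false &&
    (List.range 276).all fun b => Nat.beq ((pimg Data.nMCode)^[11] b) b) = true := by decide +kernel

theorem nM_comm_check : commOK Data.nMCode Data.eMCode = true := by decide +kernel

theorem invols_check : ([Data.tMCode, Data.sMCode, Data.eMCode].all fun c =>
    ((List.range 276).all fun b => Nat.beq (pimg c (pimg c b)) b) &&
      !((List.range 276).all fun b => Nat.beq (pimg c b) b)) = true := by decide +kernel

theorem distinct_check : (!((List.range 276).all fun b => Nat.beq (pimg Data.sMCode b) (pimg Data.tMCode b)) &&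
    !((List.range 276).all fun b => Nat.beq (pimg Data.eMCode b) (pimg Data.tMCode b))) = true := by decide +kernel

end CfsgLib.CoThreeUnique.Facts
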