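import Cfsg.Agent.Lib.CoThreeUnique.Elements
import Cfsg.Agent.Lib.CoThreeUnique.Facts.CentChecks

/-!
The centraliser of the central involution of the third Conway group: order, generators and chains.
-/

set_option autoImplicit false
set_option maxRecDepth 100000

namespace CfsgLib.CoThreeUnique.Facts

open CfsgLib.Sporadic
open CfsgLib.Sporadic.Conway.ThreeOut (GT gA gB gZ)

theorem hasCode_tM : HasCode tM Data.tMCode := rho_tM

theorem hasCode_sM : HasCode sM Data.sMCode := rho_sM

theorem hasCode_eM : HasCode eM Data.eMCode := rho_eM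

theorem hasCode_one : HasCode 1 CentData.idCode := fun i => by
  rw [map_one, Equiv.Perm.one_apply]
  exact (Nat.eq_of_beq_eq_true (List.all_eq_true.1 id_check i (List.mem_range.2 i.2))).symm

theorem eq_of_hasCode {g h : GT} {c : ℕ} (hg : HasCode g c) (hh : HasCode h c) : g = h :=
  eq_of_rho fun i => (hg i).trans (hh i).symm

theorem comm_of_code {g h : GT} {c d : ℕ} (hg : HasCode g c) (hh : HasCode h d) (e : commOK c d = true) :
    g * h = h * g := eq_of_rho fun i => by
  rw [map_mul, map_mul, Equiv.Perm.mul_apply, Equiv.Perm.mul_apply, hg, hh, hh, hg]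
  exact Nat.eq_of_beq_eq_true (List.all_eq_true.1 e i (List.mem_range.2 i.2))

theorem mem_centralizer_pair {g a b : GT} (ha : g * a = a * g) (hb : g * b = b * g) :
    g ∈ Subgroup.centralizer ({a, b} : Set GT) := by
  rw [Subgroup.mem_centralizer_iff]
  rintro h (rfl | rfl)
  · exact ha.symm
  · exact hb.symm

theorem comm_tM {g : GT} (hg : g ∈ Cc) : g * tM = tM * g :=
  (Subgroup.mem_centralizer_iff.1 hg tM rfl).symm

theorem mem_Cc {g : GT} (hg : g * tM = tM * g) : g ∈ Cc := Subgroup.mem_centralizer_singleton_iff.2 hg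

theorem comm_pair {g a b : GT} (hg : g ∈ Subgroup.centralizer ({a, b} : Set GT)) :
    g * a = a * g ∧ g * b = b * g :=
  ⟨(Subgroup.mem_centralizer_iff.1 hg a (Or.inl rfl)).symm,
    (Subgroup.mem_centralizer_iff.1 hg b (Or.inr rfl)).symm⟩

theorem centralizer_pair_le (u : GT) : Subgroup.centralizer ({tM, u} : Set GT) ≤ Cc :=
  Subgroup.centralizer_le (Set.singleton_subset_iff.2 (Or.inl rfl))

/-- The subgroup generated by the seven generators. -/
noncomputable def gen7 : Subgroup GT := Subgroup.closure {x0, x1, x2, x3, x4, x5, x6}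

theorem initX_mem : ∀ c ∈ initX, ∃ g ∈ gen7, HasCode g c := by
  have h : ∀ g ∈ ({x0, x1, x2, x3, x4, x5, x6} : Set GT), g ∈ gen7 := fun g hg => Subgroup.subset_closure hg
  intro c hc
  simp only [initX, List.mem_cons, List.not_mem_nil, or_false] at hc
  rcases hc with rfl | rfl | rfl | rfl | rfl | rfl | rfl
  · exact ⟨x0, h _ (by simp), rho_x0⟩
  · exact ⟨x1, h _ (by simp), rho_x1⟩
  · exact ⟨x2, h _ (by simp), rho_x2⟩
  · exact ⟨x3, h _ (by simp), rho_x3⟩
  · exact ⟨x4, h _ (by simp), rho_x4⟩
  · exact ⟨x5, h _ (by simp), rho_x5⟩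
  · exact ⟨x6, h _ (by simp), rho_x6⟩

theorem mem_allX : ∀ c ∈ allX, ∃ g ∈ gen7, HasCode g c := exists_of_prods prodsX_check initX_mem

theorem mem_allG : ∀ c ∈ allG, ∃ g ∈ (⊤ : Subgroup GT), HasCode g c := by
  have h := good_gens
  simp only [Bool.and_eq_true] at h
  refine exists_of_prods prodsG_check fun c hc => ?_
  simp only [initG, List.mem_cons, List.not_mem_nil, or_false] at hc
  rcases hc with rfl | rfl | rfl
  · exact ⟨gA, trivial, rho_apply_of_good Conway.ThreeOut.acts_gA h.1.1⟩
  · exact ⟨gB, trivial, rho_apply_of_good Conway.ThreeOut.acts_gB h.1.2⟩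
  · exact ⟨gZ, trivial, rho_apply_of_good Conway.ThreeOut.acts_gZ h.2⟩

theorem exact_top {Ls : List Level} (h : chainOK allG Ls [] = true) (ht : total Ls = 495766656000) :
    Exact ⊤ Ls [] := by
  refine exact_of_card mem_allG Ls [] h ?_
  rw [fixPre_nil, top_inf_eq, Subgroup.card_top, Conway.ThreeOut.card_GT, ht]

theorem exact_groupC : Exact ⊤ CentData.groupC [] := exact_top groupC_check groups_total.1

theorem exact_groupD : Exact ⊤ CentData.groupD [] := exact_top groupD_check groups_total.2.1

theorem exact_groupK : Exact ⊤ CentData.groupK [] := exact_top groupK_check groups_total.2.2.1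

theorem eq_of_baseC {g h : GT} (e : ∀ i : Fin 276, (i : ℕ) ∈ baseC → (rho g i : ℕ) = rho h i) : g = h :=
  eq_of_agree exact_groupC (by rwa [groups_total.2.2.2.1])

theorem eq_of_baseK {g h : GT} (e : ∀ i : Fin 276, (i : ℕ) ∈ baseK → (rho g i : ℕ) = rho h i) : g = h :=
  eq_of_agree exact_groupK (by rwa [groups_total.2.2.2.2])

theorem gen7_le : gen7 ≤ Cc := by
  have h := commT_check
  simp only [List.all_cons, Bool.and_eq_true, List.all_eq_true] at h
  refine (Subgroup.closure_le _).2 fun g hg => mem_Cc ?_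
  have key : ∀ c ∈ initX, ∀ x : GT, HasCode x c → x * tM = tM * x := fun c hc x hx =>
    comm_of_code hx hasCode_tM (h.2.2 c hc)
  rcases hg with rfl | rfl | rfl | rfl | rfl | rfl | rfl
  · exact key _ (by simp [initX]) _ rho_x0
  · exact key _ (by simp [initX]) _ rho_x1
  · exact key _ (by simp [initX]) _ rho_x2
  · exact key _ (by simp [initX]) _ rho_x3
  · exact key _ (by simp [initX]) _ rho_x4
  · exact key _ (by simp [initX]) _ rho_x5
  · exact key _ (by simp [initX]) _ rho_x6

theorem sM_mem : sM ∈ Cc := by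
  have h := commT_check
  simp only [List.all_cons, Bool.and_eq_true] at h
  exact mem_Cc (comm_of_code hasCode_sM hasCode_tM h.1)

theorem eM_mem : eM ∈ Cc := by
  have h := commT_check
  simp only [List.all_cons, Bool.and_eq_true] at h
  exact mem_Cc (comm_of_code hasCode_eM hasCode_tM h.2.1)

theorem tM_mem : tM ∈ Cc := mem_Cc rfl

theorem card_eq_inf_fixPre_nil (K : Subgroup GT) : Nat.card K = Nat.card (K ⊓ fixPre [] : Subgroup GT) := by
  rw [fixPre_nil, inf_top_eq]

theorem card_Cc_le : Nat.card Cc ≤ 2903040 := by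
  rw [card_eq_inf_fixPre_nil, ← boundC_check]
  refine card_le_bound (fun v hv => ?_) _ _ exact_groupC
  rw [List.mem_singleton] at hv
  exact ⟨tM, hv ▸ hasCode_tM, fun g hg => (comm_tM hg).symm⟩

theorem card_gen7_ge : 2903040 ≤ Nat.card gen7 := by
  rw [card_eq_inf_fixPre_nil, ← cents_total.1]
  exact total_le mem_allX _ _ centC_check

theorem gen7_eq : gen7 = Cc := by
  have := Conway.ThreeOut.finite_GT
  exact Subgroup.eq_of_le_of_card_ge gen7_le (card_Cc_le.trans card_gen7_ge)

theorem card_Cc : Nat.card Cc = 2903040 :=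
  le_antisymm card_Cc_le (gen7_eq ▸ card_gen7_ge)

theorem exact_centC : Exact gen7 CentData.centC [] := by
  refine exact_of_card mem_allX _ _ centC_check ?_
  rw [← card_eq_inf_fixPre_nil, cents_total.1, gen7_eq, card_Cc]

theorem commWith_mem {u : GT} {d : ℕ} (hu : HasCode u d) :
    ∀ c ∈ commWith d, ∃ g ∈ Subgroup.centralizer ({tM, u} : Set GT), HasCode g c := by
  intro c hc
  obtain ⟨a, ha, rfl⟩ := List.mem_map.1 hc
  cases hcomm : commOK a d
  · exact ⟨1, one_mem _, hasCode_one⟩
  · obtain ⟨g, hg, hga⟩ := mem_allX a ha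
    exact ⟨g, mem_centralizer_pair (comm_tM (gen7_le hg)) (comm_of_code hga hu hcomm), hga⟩

theorem card_pair_le {u : GT} {d v : ℕ} (hu : HasCode u d) (hv : HasCode (tM * u) v) {Ls : List Level}
    (hE : Exact ⊤ Ls []) :
    Nat.card (Subgroup.centralizer ({tM, u} : Set GT)) ≤ bound [Data.tMCode, d, v] Ls [] := by
  rw [card_eq_inf_fixPre_nil]
  refine card_le_bound (fun w hw => ?_) _ _ hE
  simp only [List.mem_cons, List.not_mem_nil, or_false] at hw
  rcases hw with rfl | rfl | rfl
  · exact ⟨tM, hasCode_tM, fun g hg => (comm_pair hg).1.symm⟩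
  · exact ⟨u, hu, fun g hg => (comm_pair hg).2.symm⟩
  · exact ⟨tM * u, hv, fun g hg => ((Commute.mul_right (comm_pair hg).1 (comm_pair hg).2).eq).symm⟩

theorem hasCode_ts : HasCode (tM * sM) CentData.tsCode := hasCode_mul hasCode_tM hasCode_sM ts_check

theorem hasCode_te : HasCode (tM * eM) CentData.teCode := hasCode_mul hasCode_tM hasCode_eM te_check

theorem card_D1 : Nat.card D1 = 4608 := by
  refine le_antisymm ((card_pair_le hasCode_sM hasCode_ts exact_groupD).trans boundD_check.le) ?_
  rw [card_eq_inf_fixPre_nil, ← cents_total.2.1]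
  exact total_le (commWith_mem hasCode_sM) _ _ centD_check

theorem card_cent_eM : Nat.card (Subgroup.centralizer ({tM, eM} : Set GT)) = 384 := by
  refine le_antisymm ((card_pair_le hasCode_eM hasCode_te exact_groupK).trans boundK_check.le) ?_
  rw [card_eq_inf_fixPre_nil, ← cents_total.2.2.1]
  exact total_le (commWith_mem hasCode_eM) _ _ centK_check

theorem ne_one_of_code {g : GT} {c : ℕ} (hg : HasCode g c)
    (h : ((List.range 276).all fun b => Nat.beq (pimg c b) b) = false) : g ≠ 1 := by
  rintro rfl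
  rw [Bool.eq_false_iff] at h
  refine h (List.all_eq_true.2 fun b hb => ?_)
  have := hg ⟨b, List.mem_range.1 hb⟩
  rw [map_one, Equiv.Perm.one_apply] at this
  rw [← this]
  exact Nat.beq_refl b

theorem ne_of_code {g h : GT} {c d : ℕ} (hg : HasCode g c) (hh : HasCode h d)
    (e : ((List.range 276).all fun b => Nat.beq (pimg c b) (pimg d b)) = false) : g ≠ h := by
  rintro rfl
  rw [Bool.eq_false_iff] at e
  refine e (List.all_eq_true.2 fun b hb => ?_)
  have := (hg ⟨b, List.mem_range.1 hb⟩).symm.trans (hh ⟨b, List.mem_range.1 hb⟩)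
  dsimp only at this
  rw [this]
  exact Nat.beq_refl _

theorem orderOf_two_of_code {g : GT} {c : ℕ} (hg : HasCode g c)
    (h2 : ((List.range 276).all fun b => Nat.beq (pimg c (pimg c b)) b) = true)
    (h1 : ((List.range 276).all fun b => Nat.beq (pimg c b) b) = false) : orderOf g = 2 := by
  have := Fact.mk Nat.prime_two
  refine orderOf_eq_prime ?_ (ne_one_of_code hg h1)
  refine eq_of_rho fun i => ?_
  rw [pow_two, map_mul, map_one, Equiv.Perm.mul_apply, Equiv.Perm.one_apply, hg, hg]
  exact Nat.eq_of_beq_eq_true (List.all_eq_true.1 h2 i (List.mem_range.2 i.2))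

theorem order_tM : orderOf tM = 2 := by
  have h := invols_check
  simp only [List.all_cons, List.all_nil, Bool.and_eq_true, Bool.not_eq_true', and_true] at h
  exact orderOf_two_of_code hasCode_tM h.1.1 h.1.2

theorem order_sM : orderOf sM = 2 := by
  have h := invols_check
  simp only [List.all_cons, List.all_nil, Bool.and_eq_true, Bool.not_eq_true', and_true] at h
  exact orderOf_two_of_code hasCode_sM h.2.1.1 h.2.1.2

theorem order_eM : orderOf eM = 2 := by
  have h := invols_check
  simp only [List.all_cons, List.all_nil, Bool.and_eq_true, Bool.not_eq_true', and_true] at h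
  exact orderOf_two_of_code hasCode_eM h.2.2.1 h.2.2.2

theorem sM_ne : sM ≠ tM := by
  have h := distinct_check
  simp only [Bool.and_eq_true, Bool.not_eq_true'] at h
  exact ne_of_code hasCode_sM hasCode_tM h.1

theorem eM_ne : eM ≠ tM := by
  have h := distinct_check
  simp only [Bool.and_eq_true, Bool.not_eq_true'] at h
  exact ne_of_code hasCode_eM hasCode_tM h.2

theorem nM_comm : nM * eM = eM * nM := comm_of_code rho_nM hasCode_eM nM_comm_check

theorem order_nM : orderOf nM = 11 := by
  have h := nM_check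
  simp only [Bool.and_eq_true, beq_iff_eq] at h
  have := Fact.mk (show Nat.Prime 11 by norm_num)
  refine orderOf_eq_prime (eq_of_rho fun i => ?_) ?_
  · have key : ∀ (n : ℕ) (j : Fin 276), (rho (nM ^ n) j : ℕ) = (pimg Data.nMCode)^[n] j := by
      intro n
      induction n with
      | zero => intro j; rw [pow_zero, map_one, Equiv.Perm.one_apply]; rfl
      | succ n ih =>
        intro j
        rw [pow_succ', map_mul, Equiv.Perm.mul_apply, rho_nM, ih, Function.iterate_succ_apply']
    rw [key, map_one, Equiv.Perm.one_apply]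
    exact Nat.eq_of_beq_eq_true (List.all_eq_true.1 h.2 i (List.mem_range.2 i.2))
  · refine ne_one_of_code rho_nM (Bool.eq_false_iff.2 fun e => ?_)
    have e0 := List.all_eq_true.1 e 0 (List.mem_range.2 (by norm_num))
    rw [h.1] at e0
    exact Bool.noConfusion e0

end CfsgLib.CoThreeUnique.Facts
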