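import Cfsg.Agent.Lib.DMult.SpSixLower
import Cfsg.Agent.Lib.DMult.SpSixUpper
import Cfsg.Agent.Lib.Sp.Card
import Cfsg.Agent.Lib.CoThreeUnique.Facts.CentData

/-!
The faithful action of `Sp₆(2)` on its thirty-six quadratic forms of plus type, numbered as the pairs fixed by the
central involution of the third Conway group.
-/

set_option autoImplicit false
set_option maxRecDepth 100000

namespace CfsgLib.CoThreeUnique.Facts

open Matrix CfsgLib.DMult.SpSix
open CfsgLib.CoThreeUnique

/-- The forms of plus type. -/
abbrev PlusForms := {a : V3 // zeros a = 36}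

theorem act_one (a : V3) : act 1 a = a := by
  rw [act, inv_one, Submonoid.coe_one]
  simp only [one_mulVec]
  exact coef_qd a

theorem act_mul (g k : G6) (a : V3) : act (g * k) a = act g (act k a) := by
  refine congrArg coef (funext fun x => ?_)
  rw [qd_act, mulVec_mulVec, ← Submonoid.coe_mul, _root_.mul_inv_rev]

/-- The action on the forms of plus type. -/
def permP : G6 →* Equiv.Perm PlusForms :=
  let f : G6 → Equiv.Perm PlusForms := fun g =>
    { toFun := fun a => ⟨act g a, (zeros_act g a).trans a.2⟩
      invFun := fun a => ⟨act g⁻¹ a, (zeros_act g⁻¹ a).trans a.2⟩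
      left_inv := fun a => Subtype.ext (show act g⁻¹ (act g a.1) = a.1 by
        rw [← act_mul, inv_mul_cancel, act_one])
      right_inv := fun a => Subtype.ext (show act g (act g⁻¹ a.1) = a.1 by
        rw [← act_mul, mul_inv_cancel, act_one]) }
  MonoidHom.mk' f fun g k => Equiv.ext fun a => Subtype.ext (act_mul g k a.1)

/-- The form attached to a number. -/
def formOf (i : Fin 36) : V3 := decode (CentData.formCodes.getD i.val 0)

theorem zeros_formOf : ∀ i, zeros (formOf i) = 36 := by decide +kernel

theorem card_plus : (Finset.univ.filter fun a : V3 => zeros a = 36).card = 36 := by decide +kernel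

theorem formOf_injective : ∀ i j, formOf i = formOf j → i = j := by decide +kernel

/-- The forms of plus type numbered. -/
def plusPt (i : Fin 36) : PlusForms := ⟨formOf i, zeros_formOf i⟩

theorem plusPt_bijective : Function.Bijective plusPt := by
  rw [Fintype.bijective_iff_injective_and_card]
  refine ⟨fun i j h => formOf_injective i j (congrArg Subtype.val h), ?_⟩
  rw [Fintype.card_fin, Fintype.card_subtype, card_plus]

/-- The action on thirty-six points. -/
noncomputable def psi36 : G6 →* Equiv.Perm (Fin 36) :=
  (Equiv.ofBijective plusPt plusPt_bijective).symm.permCongrHom.toMonoidHom.comp permP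

theorem zmod_two_cases : ∀ x : ZMod 2, x = 0 ∨ x = 1 := by decide

theorem psi36_T {v : V3} {i j : Fin 36} (h : tauForm v (formOf i) = formOf j) :
    psi36 (CfsgLib.SpMult.Two.T v) i = j := by
  show (Equiv.ofBijective plusPt plusPt_bijective).symm (permP _ (plusPt i)) = _
  rw [Equiv.symm_apply_eq]
  refine Subtype.ext ?_
  show act _ (formOf i) = formOf j
  rw [← h, act, inv_eq_of_mul_eq_one_right (CfsgLib.SpMult.Two.T_mul_self zmod_two_cases v)]
  refine congrArg coef (funext fun x => ?_)
  rw [CfsgLib.SpMult.Two.T_apply, sympForm_eq_bf]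

theorem moved_check : tauForm (decode 1) (formOf 1) ≠ formOf 1 := by decide +kernel

theorem psi36_injective : Function.Injective psi36 := by
  rcases CfsgLib.Sp.normal_le_center_or_eq_top
    (CfsgLib.Sp.commutator_eq_top_of_card (F := ZMod 2) (m := 3) (q := 2) (ZMod.card 2)
      (Or.inr (Or.inr ⟨rfl, le_rfl⟩))) psi36.ker with h | h
  · rw [← MonoidHom.ker_eq_bot_iff]
    exact le_bot_iff.1 (h.trans (center_eq_bot zmod_two_cases).le)
  · exfalso
    have h1 : CfsgLib.SpMult.Two.T (decode 1) ∈ psi36.ker := h ▸ Subgroup.mem_top _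
    obtain ⟨j, hj⟩ := plusPt_bijective.2 ⟨tauForm (decode 1) (formOf 1), by decide +kernel⟩
    have h2 := psi36_T (v := decode 1) (i := 1) (j := j) (congrArg Subtype.val hj).symm
    rw [MonoidHom.mem_ker.1 h1, Equiv.Perm.one_apply] at h2
    exact moved_check ((congrArg Subtype.val hj).symm.trans (by rw [← h2]; rfl))

theorem card_G6 : Nat.card G6 = 1451520 := by
  rw [CfsgLib.Sp.card_symplecticGroup (F := ZMod 2) (ZMod.card 2)]
  decide +kernel

theorem card_range_psi36 : Nat.card psi36.range = 1451520 :=
  (Nat.card_congr (MonoidHom.ofInjective psi36_injective).toEquiv).symm.trans card_G6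

end CfsgLib.CoThreeUnique.Facts
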