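import Cfsg.Agent.Lib.CoThreeUnique.Facts.CentSylow
import Cfsg.Agent.Lib.CoThreeUnique.Facts.PlusForms
import Cfsg.Prelude.Def_SporadicB

/-!
The centraliser of the central involution of the third Conway group is a non-split double cover of `Sp₆(2)`: its
action on the thirty-six fixed pairs is that on the quadratic forms of plus type.
-/

set_option autoImplicit false
set_option maxRecDepth 100000

namespace CfsgLib.CoThreeUnique.Facts

open CfsgLib.Sporadic
open CfsgLib.Sporadic.Conway.ThreeOut (GT)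
open CfsgLib.DMult.SpSix (G6 V3 decode tauForm)

/-- The pair with the given number among those fixed by `tM`. -/
def fixNum (i : Fin 36) : ℕ := CentData.fixedPts.getD i.val 0

theorem fix_check : (∀ i : Fin 36, fixNum i < 276 ∧ pimg Data.tMCode (fixNum i) = fixNum i) ∧
    (∀ i j : Fin 36, fixNum i = fixNum j → i = j) ∧
    ((List.range 276).all fun b => !(Nat.beq (pimg Data.tMCode b) b) ||
      (List.finRange 36).any fun i => Nat.beq (fixNum i) b) = true := by decide +kernel

/-- The pairs fixed by `tM`. -/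
abbrev FixPts := {i : Fin 276 // rho tM i = i}

/-- The fixed pairs numbered. -/
noncomputable def fixPt (i : Fin 36) : FixPts :=
  ⟨⟨fixNum i, (fix_check.1 i).1⟩, Fin.ext ((hasCode_tM _).trans (fix_check.1 i).2)⟩

theorem fixPt_bijective : Function.Bijective fixPt := by
  refine ⟨fun i j h => fix_check.2.1 i j (congrArg (fun x : FixPts => (x.1 : ℕ)) h), fun x => ?_⟩
  have h := List.all_eq_true.1 fix_check.2.2 x.1 (List.mem_range.2 x.1.2)
  simp only [Bool.or_eq_true, Bool.not_eq_true', List.any_eq_true] at h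
  rcases h with h | ⟨i, -, hi⟩
  · rw [← hasCode_tM x.1, x.2] at h
    exact absurd (Nat.beq_refl _) (by rw [h]; exact Bool.noConfusion)
  · exact ⟨i, Subtype.ext (Fin.ext (Nat.eq_of_beq_eq_true hi))⟩

theorem fix_iff {g : GT} (hg : g ∈ Cc) (i : Fin 276) : rho tM (rho g i) = rho g i ↔ rho tM i = i := by
  rw [← Equiv.Perm.mul_apply, ← map_mul, ← comm_tM hg, map_mul, Equiv.Perm.mul_apply,
    EmbeddingLike.apply_eq_iff_eq]

/-- The action of the centraliser on the fixed pairs. -/
noncomputable def resFix : Cc →* Equiv.Perm (Fin 36) :=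
  (Equiv.ofBijective fixPt fixPt_bijective).symm.permCongrHom.toMonoidHom.comp
    (MonoidHom.mk' (fun g : Cc => Equiv.Perm.subtypePerm (rho (g : GT)) (fix_iff g.2))
      fun g h => Equiv.ext fun x => Subtype.ext (by
        show rho ((g : GT) * h) x.1 = rho (g : GT) (rho (h : GT) x.1)
        rw [map_mul, Equiv.Perm.mul_apply]))

theorem resFix_eq {g : Cc} {c : ℕ} (hg : HasCode (g : GT) c) {i j : Fin 36} (h : pimg c (fixNum i) = fixNum j) :
    resFix g i = j := by
  show (Equiv.ofBijective fixPt fixPt_bijective).symm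
    ⟨rho (g : GT) (fixPt i).1, _⟩ = _
  rw [Equiv.symm_apply_eq]
  exact Subtype.ext (Fin.ext ((hg _).trans h))

theorem resFix_eq_one_iff {g : Cc} : resFix g = 1 ↔ ∀ i, rho (g : GT) (fixPt i).1 = (fixPt i).1 := by
  have key : ∀ i, resFix g i = i ↔ rho (g : GT) (fixPt i).1 = (fixPt i).1 := fun i => by
    show (Equiv.ofBijective fixPt fixPt_bijective).symm ⟨rho (g : GT) (fixPt i).1, _⟩ = i ↔ _
    rw [Equiv.symm_apply_eq]
    exact Subtype.ext_iff
  refine ⟨fun h i => (key i).1 (by rw [h]; rfl), fun h => Equiv.ext fun i => ?_⟩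
  exact (key i).2 (h i)

/-- The image of a pair among the fixed ones. -/
def fixImage (k : Fin 7) (i : Fin 36) : Fin 36 :=
  ⟨(CentData.fixedPts.idxOf (pimg (initX.getD k 0) (fixNum i))) % 36, Nat.mod_lt _ (by norm_num)⟩

theorem trans_check : ∀ k : Fin 7, ∀ i : Fin 36, pimg (initX.getD k 0) (fixNum i) = fixNum (fixImage k i) ∧
    tauForm (decode (CentData.transVecs.getD k 0)) (formOf i) = formOf (fixImage k i) := by decide +kernel

theorem resFix_gen (k : Fin 7) {x : Cc} (hx : HasCode (x : GT) (initX.getD k 0)) :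
    resFix x = psi36 (CfsgLib.SpMult.Two.T (decode (CentData.transVecs.getD k 0))) :=
  Equiv.ext fun i => (resFix_eq hx (trans_check k i).1).trans (psi36_T (trans_check k i).2).symm

theorem range_resFix_le : resFix.range ≤ psi36.range := by
  have h : gen7 ≤ (psi36.range.comap resFix).map Cc.subtype := by
    refine (Subgroup.closure_le _).2 fun g hg => ?_
    have hgc : g ∈ Cc := gen7_le (Subgroup.subset_closure hg)
    refine ⟨⟨g, hgc⟩, ?_, rfl⟩
    rcases hg with rfl | rfl | rfl | rfl | rfl | rfl | rfl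
    · exact ⟨_, (resFix_gen 0 (x := ⟨_, hgc⟩) rho_x0).symm⟩
    · exact ⟨_, (resFix_gen 1 (x := ⟨_, hgc⟩) rho_x1).symm⟩
    · exact ⟨_, (resFix_gen 2 (x := ⟨_, hgc⟩) rho_x2).symm⟩
    · exact ⟨_, (resFix_gen 3 (x := ⟨_, hgc⟩) rho_x3).symm⟩
    · exact ⟨_, (resFix_gen 4 (x := ⟨_, hgc⟩) rho_x4).symm⟩
    · exact ⟨_, (resFix_gen 5 (x := ⟨_, hgc⟩) rho_x5).symm⟩
    · exact ⟨_, (resFix_gen 6 (x := ⟨_, hgc⟩) rho_x6).symm⟩
  rintro _ ⟨g, rfl⟩
  obtain ⟨g', hg', e⟩ := h (gen7_eq.ge g.2)
  rw [show g = g' from Subtype.ext e.symm]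
  exact hg'

theorem exact_suffix {S : Subgroup GT} : ∀ (A B : List Level) (pre : List ℕ),
    Exact S (A ++ B) pre → Exact S B (allPre A pre)
  | [], _, _, h => h
  | _ :: A, B, _, h => exact_suffix A B _ h.2

theorem card_le_of_exact {S : Subgroup GT} : ∀ (Ls : List Level) (pre : List ℕ), Exact S Ls pre →
    Nat.card (S ⊓ fixPre pre : Subgroup GT) ≤ total Ls
  | [], pre, h => by
    rw [show S ⊓ fixPre pre = ⊥ from h, Subgroup.card_bot]
    exact le_rfl
  | L :: rest, pre, h => by
    obtain ⟨⟨b, hb, hO⟩, hrest⟩ := h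
    rw [card_split _ b, fixPre_step, hb, hO, total]
    refine Nat.mul_le_mul ?_ (card_le_of_exact rest _ hrest)
    rw [← Set.ncard_image_of_injective _ Fin.val_injective]
    refine (Set.ncard_le_ncard (t := ↑(pts L).toFinset) ?_ (Finset.finite_toSet _)).trans ?_
    · rintro _ ⟨j, hj, rfl⟩
      rw [Finset.mem_coe, List.mem_toFinset]
      exact hj
    · rw [Set.ncard_coe_finset]
      exact List.toFinset_card_le _

theorem last_check : total (CentData.centC.drop 7) = 2 ∧
    (allPre (CentData.centC.take 7) []).all (fun q => (List.finRange 36).any fun i => Nat.beq (fixNum i) q) = true := by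
  decide +kernel

/-- `tM` as an element of its centraliser. -/
noncomputable def tC : Cc := ⟨tM, tM_mem⟩

theorem tC_ne : tC ≠ 1 := fun h => by
  have h1 : tM = 1 := congrArg Subtype.val h
  have h2 := order_tM
  rw [h1, orderOf_one] at h2
  omega

theorem tC_mem_ker : tC ∈ resFix.ker := by
  rw [MonoidHom.mem_ker, resFix_eq_one_iff]
  exact fun i => (fixPt i).2

theorem card_ker_le : Nat.card resFix.ker ≤ 2 := by
  have := Conway.ThreeOut.finite_GT
  have hsub : resFix.ker.map Cc.subtype ≤ gen7 ⊓ fixPre (allPre (CentData.centC.take 7) []) := by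
    rintro _ ⟨g, hg, rfl⟩
    refine ⟨gen7_eq.ge g.2, fun i hi => ?_⟩
    obtain ⟨j, -, hj⟩ := List.any_eq_true.1 (List.all_eq_true.1 last_check.2 _ hi)
    have hij : (fixPt j).1 = i := Fin.ext (Nat.eq_of_beq_eq_true hj)
    rw [← hij]
    exact resFix_eq_one_iff.1 (MonoidHom.mem_ker.1 hg) j
  have h1 := Subgroup.card_le_of_le hsub
  rw [Subgroup.card_map_of_injective Subtype.val_injective] at h1
  refine h1.trans ((card_le_of_exact _ _ (exact_suffix _ _ _ ?_)).trans_eq last_check.1)
  rw [List.take_append_drop]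
  exact exact_centC

theorem mem_ker_iff (z : Cc) : z ∈ resFix.ker ↔ z = 1 ∨ z = tC := by
  have := Conway.ThreeOut.finite_GT
  refine ⟨fun hz => ?_, ?_⟩
  · by_contra h
    push Not at h
    have h3 : ({1, tC, z} : Set Cc).ncard = 3 :=
      Set.ncard_eq_three.2 ⟨1, tC, z, tC_ne.symm, h.1.symm, h.2.symm, rfl⟩
    have hle : ({1, tC, z} : Set Cc).ncard ≤ (resFix.ker : Set Cc).ncard := by
      refine Set.ncard_le_ncard ?_ (Set.toFinite _)
      rintro w (rfl | rfl | rfl)
      · exact one_mem _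
      · exact tC_mem_ker
      · exact hz
    rw [h3, ← Nat.card_coe_set_eq] at hle
    exact absurd (hle.trans card_ker_le) (by norm_num)
  · rintro (rfl | rfl)
    · exact one_mem _
    · exact tC_mem_ker

theorem card_ker : Nat.card resFix.ker = 2 := by
  have := Conway.ThreeOut.finite_GT
  refine le_antisymm card_ker_le ?_
  exact Finite.one_lt_card_iff_nontrivial.2
    ⟨⟨⟨1, one_mem _⟩, ⟨tC, tC_mem_ker⟩, fun h => tC_ne (congrArg Subtype.val h).symm⟩⟩

theorem range_resFix : resFix.range = psi36.range := by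
  refine Subgroup.eq_of_le_of_card_ge range_resFix_le ?_
  have h := Subgroup.card_mul_index resFix.ker
  rw [card_ker, Subgroup.index_ker, card_Cc] at h
  rw [card_range_psi36]
  omega

/-- The map to `Sp₆(2)`. -/
noncomputable def toSp : Cc →* G6 :=
  (MonoidHom.ofInjective psi36_injective).symm.toMonoidHom.comp
    (resFix.codRestrict psi36.range fun g => range_resFix_le ⟨g, rfl⟩)

theorem psi36_toSp (g : Cc) : psi36 (toSp g) = resFix g :=
  congrArg Subtype.val ((MonoidHom.ofInjective psi36_injective).apply_symm_apply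
    ⟨resFix g, range_resFix_le ⟨g, rfl⟩⟩)

theorem ker_toSp : toSp.ker = resFix.ker := by
  ext g
  rw [MonoidHom.mem_ker, MonoidHom.mem_ker, ← psi36_toSp g]
  exact ⟨fun h => by rw [h, map_one], fun h => psi36_injective (h.trans (map_one _).symm)⟩

theorem toSp_surjective : Function.Surjective toSp := fun A => by
  have hA : psi36 A ∈ resFix.range := range_resFix.symm ▸ ⟨A, rfl⟩
  obtain ⟨g, hg⟩ := hA
  exact ⟨g, psi36_injective ((psi36_toSp g).trans hg)⟩

theorem center_eq : Subgroup.center Cc = toSp.ker := by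
  refine le_antisymm (fun z hz => ?_) fun z hz => ?_
  · have hc : toSp z ∈ Subgroup.center G6 := by
      rw [Subgroup.mem_center_iff]
      intro A
      obtain ⟨g, rfl⟩ := toSp_surjective A
      rw [← map_mul, Subgroup.mem_center_iff.1 hz g, map_mul]
    rw [CfsgLib.DMult.SpSix.center_eq_bot zmod_two_cases, Subgroup.mem_bot] at hc
    exact hc
  · rw [ker_toSp, mem_ker_iff] at hz
    rcases hz with rfl | rfl
    · exact one_mem _
    · exact Subgroup.mem_center_iff.2 fun g => Subtype.ext (comm_tM g.2)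

theorem cover : Cfsg.IsNonsplitDoubleCover Cc (Matrix.symplecticGroup (Fin 3) (ZMod 2)) := by
  refine ⟨by rw [center_eq, ker_toSp, card_ker],
    ⟨(QuotientGroup.quotientMulEquivOfEq center_eq).trans
      (QuotientGroup.quotientKerEquivOfSurjective toSp toSp_surjective)⟩, fun L hL => ?_⟩
  obtain ⟨d, hd, hdd⟩ := exists_square_tM
  let d' : Cc := ⟨d, centralizer_pair_le eM hd⟩
  obtain ⟨⟨⟨z, hz⟩, ⟨l, hl⟩⟩, hzl, -⟩ := Subgroup.IsComplement.existsUnique hL d'
  have hz' : z = 1 ∨ z = tC := (mem_ker_iff z).1 (ker_toSp ▸ center_eq ▸ hz)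
  have hz2 : z * z = 1 := by
    rcases hz' with rfl | rfl
    · exact one_mul 1
    · refine Subtype.ext ?_
      have := pow_orderOf_eq_one tM
      rwa [order_tM, pow_two] at this
  have e : tC = l * l := by
    have h1 : d' * d' = tC := Subtype.ext hdd
    rw [← hzl] at h1
    simp only at h1
    rw [← h1, mul_assoc, ← mul_assoc l, Subgroup.mem_center_iff.1 hz l, ← mul_assoc, ← mul_assoc, hz2, one_mul]
  have htL : tC ∈ Subgroup.center Cc ⊓ L :=
    ⟨center_eq ▸ ker_toSp.symm ▸ tC_mem_ker, e ▸ L.mul_mem hl hl⟩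
  rw [hL.disjoint.eq_bot, Subgroup.mem_bot] at htL
  exact tC_ne htL

theorem center_Cc : ∀ z ∈ Cc, (∀ c ∈ Cc, c * z = z * c) → z = 1 ∨ z = tM := by
  intro z hz h
  have h' : (⟨z, hz⟩ : Cc) ∈ Subgroup.center Cc :=
    Subgroup.mem_center_iff.2 fun g => Subtype.ext (h g g.2)
  rw [center_eq, ker_toSp, mem_ker_iff] at h'
  exact h'.imp (congrArg Subtype.val) (congrArg Subtype.val)

end CfsgLib.CoThreeUnique.Facts
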