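import Cfsg.Agent.Lib.CoThreeUnique.Facts.CentBasic
import Mathlib.GroupTheory.Sylow

/-!
A Sylow 2-subgroup of the centraliser of the central involution, the classes of involutions, and square roots.
-/

set_option autoImplicit false
set_option maxRecDepth 100000

namespace CfsgLib.CoThreeUnique.Facts

open CfsgLib.Sporadic
open CfsgLib.Sporadic.Conway.ThreeOut (GT)
open scoped Pointwise

theorem memOK_spec {S : Subgroup GT} {codes : List ℕ} (hS : ∀ c ∈ codes, ∃ g ∈ S, HasCode g c) {Rs : List (List ℕ)}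
    (h : memOK codes Rs = true) : ∀ R ∈ Rs, 0 < R.length ∧ ∀ c ∈ R, ∃ g ∈ S, HasCode g c := by
  intro R hR
  simp only [memOK, List.all_eq_true, Bool.and_eq_true, Nat.blt_eq, List.any_eq_true] at h
  refine ⟨(h R hR).1, fun c hc => ?_⟩
  obtain ⟨a, ha, hac⟩ := (h R hR).2 c hc
  rw [Nat.eq_of_beq_eq_true hac]
  exact hS a ha

/-- The elements carrying the codes of the four generators. -/
def genSet : Set GT := {g | ∃ c ∈ CentData.gensP, HasCode g c}

/-- The Sylow 2-subgroup. -/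
noncomputable def sylP : Subgroup GT := Subgroup.closure genSet

theorem gensP_mem : ∀ c ∈ CentData.gensP, ∃ g ∈ gen7, HasCode g c :=
  (memOK_spec mem_allX gensP_check _ (List.mem_singleton.2 rfl)).2

theorem sylP_le : sylP ≤ gen7 := by
  refine (Subgroup.closure_le _).2 fun g ⟨c, hc, hg⟩ => ?_
  obtain ⟨g', hg', hgc⟩ := gensP_mem c hc
  exact eq_of_hasCode hg hgc ▸ hg'

theorem word_mem : ∀ w : List ℕ, (∀ k ∈ w, k < CentData.gensP.length) →
    ∃ g ∈ sylP, ∀ i : Fin 276, (rho g i : ℕ) = wordPt w i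
  | [], _ => ⟨1, one_mem _, fun i => by rw [map_one, Equiv.Perm.one_apply]; rfl⟩
  | k :: ks, h => by
    have hk := h k List.mem_cons_self
    obtain ⟨g, hg, hgw⟩ := word_mem ks fun j hj => h j (List.mem_cons_of_mem _ hj)
    have hmem : CentData.gensP.getD k 0 ∈ CentData.gensP := by
      rw [List.getD_eq_getElem _ _ hk]
      exact List.getElem_mem hk
    obtain ⟨u, -, hu⟩ := gensP_mem _ hmem
    refine ⟨u * g, mul_mem (Subgroup.subset_closure ⟨_, hmem, hu⟩) hg, fun i => ?_⟩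
    rw [map_mul, Equiv.Perm.mul_apply, hu, hgw]
    rfl

theorem reps_mem : ∀ (cs : List ℕ) (ws : List (List ℕ)), wordsOK cs ws = true → (∀ c ∈ cs, ∃ g, HasCode g c) →
    ∀ c ∈ cs, ∃ g ∈ sylP, HasCode g c
  | [], [], _, _ => fun c hc => absurd hc List.not_mem_nil
  | [], _ :: _, h, _ => by simp [wordsOK] at h
  | _ :: _, [], h, _ => by simp [wordsOK] at h
  | c :: cs, w :: ws, h, hex => by
    simp only [wordsOK, Bool.and_eq_true, List.all_eq_true, Nat.blt_eq] at h
    intro a ha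
    rcases List.mem_cons.1 ha with rfl | ha
    · obtain ⟨g, hg, hgw⟩ := word_mem w h.1.1
      obtain ⟨x, hx⟩ := hex _ List.mem_cons_self
      refine ⟨g, hg, ?_⟩
      rw [eq_of_baseC (g := g) (h := x) fun i hi => by
        rw [hgw, hx]; exact Nat.eq_of_beq_eq_true (h.1.2 _ hi)]
      exact hx
    · exact reps_mem cs ws h.2 (fun c hc => hex c (List.mem_cons_of_mem _ hc)) a ha

theorem repsP_mem : ∀ c ∈ CentData.repsP.flatten, ∃ g ∈ sylP, HasCode g c := by
  refine reps_mem _ _ wordsP_check fun c hc => ?_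
  obtain ⟨R, hR, hc⟩ := List.mem_flatten.1 hc
  obtain ⟨g, -, hg⟩ := (memOK_spec mem_allX repsP_check R hR).2 c hc
  exact ⟨g, hg⟩

theorem codesP_mem : ∀ c ∈ codesP, ∃ g ∈ sylP, HasCode g c := by
  intro c hc
  obtain ⟨a, -, rfl⟩ := List.mem_map.1 hc
  cases ha : CentData.repsP.flatten.any (Nat.beq a)
  · exact ⟨1, one_mem _, hasCode_one⟩
  · obtain ⟨b, hb, hab⟩ := List.any_eq_true.1 ha
    rw [cond_true, Nat.eq_of_beq_eq_true hab]
    exact repsP_mem b hb

theorem card_sylP_ge : 1024 ≤ Nat.card sylP := by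
  rw [card_eq_inf_fixPre_nil, ← cents_total.2.2.2.1]
  exact total_le codesP_mem _ _ centP_check

/-- `g` has number `n` on the base. -/
def HasNumber (g : GT) (n : ℕ) : Prop :=
  ∀ i : Fin 276, (i : ℕ) ∈ baseC → (rho g i : ℕ) = elemPt CentData.repsP n i

theorem row_spec (g : ℕ) : ∀ (ms : List ℕ) (n0 : ℕ), rowOK g ms n0 = true → ∀ n, n0 ≤ n → n < 1024 →
    ∃ m < 1024, ∀ b ∈ baseC, pimg g (elemPt CentData.repsP n b) = elemPt CentData.repsP m b
  | [], n0, h => fun n h0 h1 => by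
    have e : n0 = 1024 := Nat.eq_of_beq_eq_true h
    omega
  | m :: ms, n0, h => fun n h0 h1 => by
    simp only [rowOK, Bool.and_eq_true, Nat.blt_eq, List.all_eq_true] at h
    rcases Nat.lt_or_eq_of_le h0 with h0 | rfl
    · exact row_spec g ms (n0 + 1) h.2 n h0 h1
    · exact ⟨m, h.1.1, fun b hb => Nat.eq_of_beq_eq_true (h.1.2 b hb)⟩

theorem table_spec : ∀ (gs : List ℕ) (rs : List (List ℕ)), tableOK gs rs = true →
    ∀ g ∈ gs, ∀ n < 1024, ∃ m < 1024, ∀ b ∈ baseC,
      pimg g (elemPt CentData.repsP n b) = elemPt CentData.repsP m b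
  | [], _, _ => fun g hg => absurd hg List.not_mem_nil
  | _ :: _, [], h => by simp [tableOK] at h
  | g :: gs, r :: rs, h => by
    simp only [tableOK, Bool.and_eq_true] at h
    intro a ha n hn
    rcases List.mem_cons.1 ha with rfl | ha
    · exact row_spec _ r 0 h.1 n (Nat.zero_le n) hn
    · exact table_spec gs rs h.2 a ha n hn

theorem exists_hasNumber {g : GT} (hg : g ∈ sylP) : ∃ n < 1024, HasNumber g n := by
  have := Conway.ThreeOut.finite_GT
  have hg' : g ∈ Submonoid.closure genSet := by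
    rw [← Subgroup.closure_toSubmonoid_of_finite, Subgroup.mem_toSubmonoid]
    exact hg
  induction hg' using Submonoid.closure_induction_left with
  | one =>
    refine ⟨0, by norm_num, fun i hi => ?_⟩
    rw [map_one, Equiv.Perm.one_apply]
    exact (Nat.eq_of_beq_eq_true (List.all_eq_true.1 zeroP_check _ hi)).symm
  | mul_left x hx y hy ih =>
    obtain ⟨c, hc, hxc⟩ := hx
    have hyP : y ∈ sylP := by
      have e := Subgroup.closure_toSubmonoid_of_finite (G := GT) (s := genSet)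
      rw [← Subgroup.mem_toSubmonoid]
      exact e ▸ hy
    obtain ⟨n, hn, hyn⟩ := ih hyP
    obtain ⟨m, hm, hcm⟩ := table_spec _ _ tableP_check c hc n hn
    refine ⟨m, hm, fun i hi => ?_⟩
    rw [map_mul, Equiv.Perm.mul_apply, hxc, hyn i hi, hcm _ hi]

theorem card_sylP : Nat.card sylP = 1024 := by
  refine le_antisymm ?_ card_sylP_ge
  have h : ∀ g : sylP, ∃ n : Fin 1024, HasNumber (g : GT) n := fun g => by
    obtain ⟨n, hn, e⟩ := exists_hasNumber g.2
    exact ⟨⟨n, hn⟩, e⟩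
  choose f hf using h
  refine (Nat.card_le_card_of_injective f fun a b e => Subtype.ext ?_).trans_eq (Nat.card_fin 1024)
  exact eq_of_baseC fun i hi => by rw [hf a i hi, hf b i hi, e]

theorem invol_spec : ∀ (ns : List ℕ) (l : List (ℕ × ℕ)), involOK ns l = true →
    ∀ n ∈ ns, sqOne n = true → ∃ i, classOK n i = true
  | [], _, _ => fun n hn => absurd hn List.not_mem_nil
  | k :: ns, l, h => by
    intro n hn hsq
    simp only [involOK] at h
    cases hk : sqOne k
    · rw [hk, cond_false] at h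
      rcases List.mem_cons.1 hn with rfl | hn
      · rw [hk] at hsq
        exact Bool.noConfusion hsq
      · exact invol_spec ns l h n hn hsq
    · rw [hk, cond_true] at h
      cases l with
      | nil => exact Bool.noConfusion h
      | cons i is =>
        simp only [Bool.and_eq_true] at h
        rcases List.mem_cons.1 hn with rfl | hn
        · exact ⟨i, h.1⟩
        · exact invol_spec ns is h.2 n hn hsq

theorem repsC_elem (n : ℕ) : ∃ g ∈ Cc, ∀ i : Fin 276, (rho g i : ℕ) = elemPt CentData.repsC n i := by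
  obtain ⟨g, hg, e⟩ := exists_elem CentData.repsC (memOK_spec mem_allX repsC_check) n
  exact ⟨g, gen7_eq ▸ hg, e⟩

theorem classes_sylP {y : GT} (hy : y ∈ sylP) (h2 : y * y = 1) :
    y = 1 ∨ y = tM ∨ (∃ c ∈ Cc, c * sM * c⁻¹ = y) ∨ (∃ c ∈ Cc, c * eM * c⁻¹ = y) := by
  obtain ⟨n, hn, hyn⟩ := exists_hasNumber hy
  obtain ⟨z, -, hz⟩ := exists_elem CentData.repsP (memOK_spec mem_allX repsP_check) n
  have hyz : y = z := eq_of_baseC fun i hi => by rw [hyn i hi, hz]
  subst hyz
  have hsq : sqOne n = true := List.all_eq_true.2 fun b hb => by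
    have hb' : b < 276 := by
      revert b
      decide
    have e := congrArg (fun g : GT => (rho g ⟨b, hb'⟩ : ℕ)) h2
    simp only [map_mul, Equiv.Perm.mul_apply, map_one, Equiv.Perm.one_apply, hz] at e
    rw [e]
    exact Nat.beq_refl b
  obtain ⟨⟨tag, m⟩, hi⟩ := invol_spec _ _ involP_check n (List.mem_range.2 hn) hsq
  simp only [classOK, List.all_eq_true] at hi
  obtain ⟨d, hd, hdm⟩ := repsC_elem m
  have conj : ∀ {u : GT} {c : ℕ}, HasCode u c →
      (∀ b ∈ baseC, Nat.beq (elemPt CentData.repsP n (elemPt CentData.repsC m b))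
        (elemPt CentData.repsC m (pimg c b)) = true) → d * u * d⁻¹ = y := fun {u c} hu e => by
    refine mul_inv_eq_iff_eq_mul.2 (Eq.symm ?_)
    refine eq_of_baseC fun i hi => ?_
    rw [map_mul, map_mul, Equiv.Perm.mul_apply, Equiv.Perm.mul_apply, hz, hdm, hdm, hu]
    exact Nat.eq_of_beq_eq_true (e _ hi)
  cases h0 : Nat.beq tag 0
  · cases h1 : Nat.beq tag 1
    · cases h2' : Nat.beq tag 2
      · simp only [h0, h1, h2', cond_false] at hi
        exact Or.inr (Or.inr (Or.inr ⟨d, hd, conj hasCode_eM hi⟩))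
      · simp only [h0, h1, h2', cond_false, cond_true] at hi
        exact Or.inr (Or.inr (Or.inl ⟨d, hd, conj hasCode_sM hi⟩))
    · simp only [h0, h1, cond_false, cond_true] at hi
      exact Or.inr (Or.inl (eq_of_baseC fun i hb => by
        rw [hz, hasCode_tM]; exact Nat.eq_of_beq_eq_true (hi _ hb)))
  · simp only [h0, cond_true] at hi
    exact Or.inl (eq_of_baseC fun i hb => by
      rw [hz, map_one, Equiv.Perm.one_apply]; exact Nat.eq_of_beq_eq_true (hi _ hb))

theorem inv_classes : ∀ x ∈ Cc, x * x = 1 →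
    x = 1 ∨ x = tM ∨ (∃ c ∈ Cc, c * sM * c⁻¹ = x) ∨ (∃ c ∈ Cc, c * eM * c⁻¹ = x) := by
  intro x hx hx2
  have := Conway.ThreeOut.finite_GT
  have := Fact.mk Nat.prime_two
  have hP : sylP ≤ Cc := gen7_eq ▸ sylP_le
  have hcard : Nat.card (sylP.subgroupOf Cc) = 1024 := by
    rw [Nat.card_congr (Subgroup.subgroupOfEquivOfLe hP).toEquiv, card_sylP]
  have hidx : (sylP.subgroupOf Cc).index = 2835 := by
    have h := Subgroup.card_mul_index (sylP.subgroupOf Cc)
    rw [hcard, card_Cc] at h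
    omega
  have hp : IsPGroup 2 (sylP.subgroupOf Cc) := IsPGroup.of_card (n := 10) (hcard.trans (by norm_num))
  let P0 : Sylow 2 Cc := hp.toSylow (by rw [hidx]; norm_num)
  let x' : Cc := ⟨x, hx⟩
  have hzx : IsPGroup 2 (Subgroup.zpowers x') := by
    intro g
    refine ⟨1, ?_⟩
    obtain ⟨k, hk⟩ := Subgroup.mem_zpowers_iff.1 g.2
    refine Subtype.ext ?_
    rw [SubmonoidClass.coe_pow, ← hk, pow_one, ← zpow_natCast, ← zpow_mul, mul_comm, zpow_mul,
      show x' ^ ((2 : ℕ) : ℤ) = 1 from by rw [zpow_natCast, pow_two]; exact Subtype.ext hx2, one_zpow]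
    rfl
  obtain ⟨Q, hQ⟩ := hzx.exists_le_sylow
  obtain ⟨c, hc⟩ := MulAction.exists_smul_eq Cc Q P0
  have hmem : c * x' * c⁻¹ ∈ sylP.subgroupOf Cc := by
    have h1 : MulAut.conj c • x' ∈ MulAut.conj c • (Q : Subgroup Cc) :=
      Subgroup.smul_mem_pointwise_smul _ _ _ (hQ (Subgroup.mem_zpowers x'))
    have h3 : c * x' * c⁻¹ ∈ ((c • Q : Sylow 2 Cc) : Subgroup Cc) := by
      rw [show ((c • Q : Sylow 2 Cc) : Subgroup Cc) = MulAut.conj c • (Q : Subgroup Cc) from rfl]
      simpa [MulAut.smul_def] using h1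
    rw [hc] at h3
    exact h3
  have hy : (c : GT) * x * (c : GT)⁻¹ ∈ sylP := Subgroup.mem_subgroupOf.1 hmem
  have hy2 : (c : GT) * x * (c : GT)⁻¹ * ((c : GT) * x * (c : GT)⁻¹) = 1 := by
    rw [show (c : GT) * x * (c : GT)⁻¹ * ((c : GT) * x * (c : GT)⁻¹) = c * (x * x) * (c : GT)⁻¹ by group, hx2]
    group
  rcases classes_sylP hy hy2 with h | h | ⟨d, hd, h⟩ | ⟨d, hd, h⟩
  · left
    rwa [mul_inv_eq_one, mul_eq_left] at h
  · right; left
    rw [mul_inv_eq_iff_eq_mul, (comm_tM c.2).symm] at h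
    exact mul_left_cancel h
  · right; right; left
    refine ⟨(c : GT)⁻¹ * d, mul_mem (inv_mem c.2) hd, ?_⟩
    rw [show (c : GT)⁻¹ * d * sM * ((c : GT)⁻¹ * d)⁻¹ = (c : GT)⁻¹ * (d * sM * d⁻¹) * c by group, h]
    group
  · right; right; right
    refine ⟨(c : GT)⁻¹ * d, mul_mem (inv_mem c.2) hd, ?_⟩
    rw [show (c : GT)⁻¹ * d * eM * ((c : GT)⁻¹ * d)⁻¹ = (c : GT)⁻¹ * (d * eM * d⁻¹) * c by group, h]
    group

theorem swap_of_check {u : GT} {a b : ℕ} (hu : HasCode u a) (hb : HasCode (tM * u) b) {n : ℕ}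
    (h : swapOK n a b = true) : ∃ c ∈ Cc, c * u * c⁻¹ = tM * u := by
  obtain ⟨d, hd, hdn⟩ := repsC_elem n
  refine ⟨d, hd, mul_inv_eq_iff_eq_mul.2 (eq_of_baseC fun i hi => ?_)⟩
  rw [map_mul, map_mul, Equiv.Perm.mul_apply, Equiv.Perm.mul_apply, hdn, hu, hb, hdn]
  exact Nat.eq_of_beq_eq_true (List.all_eq_true.1 h _ hi)

theorem sM_swap : ∃ c ∈ Cc, c * sM * c⁻¹ = tM * sM := by
  have h := swaps_check
  simp only [Bool.and_eq_true] at h
  exact swap_of_check hasCode_sM hasCode_ts h.1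

theorem eM_swap : ∃ c ∈ Cc, c * eM * c⁻¹ = tM * eM := by
  have h := swaps_check
  simp only [Bool.and_eq_true] at h
  exact swap_of_check hasCode_eM hasCode_te h.2

theorem repsOK_mem {S : Subgroup GT} {codes : List ℕ} (hS : ∀ c ∈ codes, ∃ g ∈ S, HasCode g c) :
    ∀ (Rs : List (List ℕ)) (Ls : List Level) (pre : List ℕ), repsOK codes Rs Ls pre = true →
      ∀ R ∈ Rs, 0 < R.length ∧ ∀ c ∈ R, ∃ g ∈ S, HasCode g c
  | [], _, _, _ => fun R hR => absurd hR List.not_mem_nil
  | _ :: _, [], _, h => by simp [repsOK] at h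
  | R :: Rs, L :: rest, pre, h => by
    simp only [repsOK, Bool.and_eq_true, List.all_eq_true, List.any_eq_true] at h
    intro A hA
    rcases List.mem_cons.1 hA with rfl | hA
    · refine ⟨?_, fun c hc => ?_⟩
      · rw [Nat.eq_of_beq_eq_true h.1.1.1]
        simp [pts]
      · obtain ⟨a, ha, hac⟩ := (h.1.1.2 c hc).1
        rw [Nat.eq_of_beq_eq_true hac]
        exact hS a ha
    · exact repsOK_mem hS Rs rest _ h.2 A hA

theorem exists_square_tM : ∃ d ∈ Subgroup.centralizer ({tM, eM} : Set GT), d * d = tM := by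
  obtain ⟨d, hd, e⟩ := exists_elem CentData.repsK
    (repsOK_mem (commWith_mem hasCode_eM) _ _ _ repsK_check) CentData.rootT
  refine ⟨d, hd, eq_of_baseK fun i hi => ?_⟩
  rw [map_mul, Equiv.Perm.mul_apply, e, e, hasCode_tM]
  exact Nat.eq_of_beq_eq_true (List.all_eq_true.1 rootT_check _ hi)

theorem not_exists_square_eM : ∀ d ∈ Subgroup.centralizer ({tM, eM} : Set GT), d * d ≠ eM := by
  intro d hd h
  have hE : Exact (Subgroup.centralizer ({tM, eM} : Set GT)) CentData.centK [] := by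
    refine exact_of_card (commWith_mem hasCode_eM) _ _ centK_check ?_
    rw [← card_eq_inf_fixPre_nil, card_cent_eM, cents_total.2.2.1]
  have hd' : d ∈ Subgroup.centralizer ({tM, eM} : Set GT) ⊓ fixPre [] := ⟨hd, by simp [mem_fixPre]⟩
  obtain ⟨n, hn, e⟩ := exists_number (commWith_mem hasCode_eM) _ _ _ repsK_check hE d hd'
  rw [cents_total.2.2.2.2] at hn
  have hc := List.all_eq_true.1 noRoot_check n (List.mem_range.2 hn)
  rw [Bool.not_eq_true', Bool.eq_false_iff] at hc
  refine hc (List.all_eq_true.2 fun b hb => ?_)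
  have hb' : b < 276 := by
    revert b
    decide
  have e1 : (rho (d * d) ⟨b, hb'⟩ : ℕ) = pimg Data.eMCode b := by rw [h, hasCode_eM]
  rw [map_mul, Equiv.Perm.mul_apply, e, e] at e1
  rw [e1]
  exact Nat.beq_refl _

end CfsgLib.CoThreeUnique.Facts
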