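import Cfsg.Agent.Lib.CoThreeUnique.Spec
import Cfsg.Agent.Lib.CoThreeUnique.Facts.CentCover

/-!
The facts on the centraliser of the central involution of the third Conway group, as fields of `ModelFacts`.
-/

set_option autoImplicit false

namespace CfsgLib.CoThreeUnique

open CfsgLib.Sporadic.Conway.ThreeOut (GT)

theorem order_tM : orderOf tM = 2 := Facts.order_tM

theorem order_sM : orderOf sM = 2 := Facts.order_sM

theorem order_eM : orderOf eM = 2 := Facts.order_eM

theorem order_nM : orderOf nM = 11 := Facts.order_nM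

theorem nM_comm : nM * eM = eM * nM := Facts.nM_comm

theorem card_Cc : Nat.card Cc = 2903040 := Facts.card_Cc

theorem cover : Cfsg.IsNonsplitDoubleCover Cc (Matrix.symplecticGroup (Fin 3) (ZMod 2)) := Facts.cover

theorem center_Cc : ∀ z ∈ Cc, (∀ c ∈ Cc, c * z = z * c) → z = 1 ∨ z = tM := Facts.center_Cc

theorem sM_mem : sM ∈ Cc := Facts.sM_mem

theorem eM_mem : eM ∈ Cc := Facts.eM_mem

theorem sM_ne : sM ≠ tM := Facts.sM_ne

theorem eM_ne : eM ≠ tM := Facts.eM_ne

theorem inv_classes : ∀ x ∈ Cc, x * x = 1 →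
    x = 1 ∨ x = tM ∨ (∃ c ∈ Cc, c * sM * c⁻¹ = x) ∨ (∃ c ∈ Cc, c * eM * c⁻¹ = x) := Facts.inv_classes

theorem sM_swap : ∃ c ∈ Cc, c * sM * c⁻¹ = tM * sM := Facts.sM_swap

theorem eM_swap : ∃ c ∈ Cc, c * eM * c⁻¹ = tM * eM := Facts.eM_swap

theorem card_D1 : Nat.card D1 = 4608 := Facts.card_D1

theorem card_K1 : Nat.card K1 = 384 := Facts.card_cent_eM

theorem square_tM : ∃ d ∈ K1, d * d = tM := Facts.exists_square_tM

theorem not_square_eM : ∀ d ∈ K1, d * d ≠ eM := Facts.not_exists_square_eM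

end CfsgLib.CoThreeUnique
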