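import Cfsg.Agent.Lib.CoThreeUnique.Facts.ElemChecks
import Cfsg.Agent.Lib.CoThreeUnique.Spec

/-!
The subgroup of order sixteen of the third Conway group and the elements of the centraliser of the
four group that normalise it.
-/

set_option autoImplicit false
set_option maxRecDepth 100000

namespace CfsgLib.CoThreeUnique.Facts

open CfsgLib.Sporadic.Conway.ThreeOut (GT)
open Subgroup

/-- The part of the centraliser of the four group normalising the subgroup of order sixteen. -/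
noncomputable abbrev N1 : Subgroup GT := D1 ⊓ NE

theorem el_eGens : ∀ e ∈ eGens, el e ∈ EM := by
  intro e he
  simp only [eGens, List.mem_cons, List.not_mem_nil, or_false] at he
  rcases he with rfl | rfl | rfl | rfl
  · exact Subgroup.subset_closure (Or.inl rfl)
  · exact Subgroup.subset_closure (Or.inr (Or.inl rfl))
  · exact Subgroup.subset_closure (Or.inr (Or.inr (Or.inl rfl)))
  · exact Subgroup.subset_closure (Or.inr (Or.inr (Or.inr rfl)))

theorem idI_mem : idI ∈ emIdx := by decide +kernel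

theorem el_idI : el idI = 1 := by
  rw [← wEl_one, eqI_iff.1 em_idI, wEl_nil]

theorem em_iff {g : GT} : g ∈ EM ↔ ∃ a ∈ emIdx, el a = g := by
  constructor
  · intro hg
    have hsq : ∀ a ∈ emIdx, (el a)⁻¹ = el a := fun a ha => by
      refine inv_eq_of_mul_eq_one_right ?_
      rw [← wEl_two, eqI_iff.1 (List.all_eq_true.1 em_sq a ha), wEl_nil]
    induction hg using Subgroup.closure_induction with
    | mem x hx =>
      have h : ∀ e ∈ eGens, ∃ a ∈ emIdx, el a = el e := fun e he => by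
        obtain ⟨a, ha, h⟩ := List.any_eq_true.1 (List.all_eq_true.1 em_gens e he)
        exact ⟨a, ha, by rw [← wEl_one, ← wEl_one e, eqI_iff.1 h]⟩
      rcases hx with rfl | rfl | rfl | rfl
      exacts [h 11 (by decide), h 12 (by decide), h 13 (by decide), h 14 (by decide)]
    | one => exact ⟨idI, idI_mem, el_idI⟩
    | mul x y _ _ hx hy =>
      obtain ⟨a, ha, rfl⟩ := hx
      obtain ⟨b, hb, rfl⟩ := hy
      obtain ⟨c, hc, h⟩ := List.any_eq_true.1 (List.all_eq_true.1 (List.all_eq_true.1 em_mul a ha) b hb)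
      exact ⟨c, hc, by rw [← wEl_two, ← wEl_one, eqI_iff.1 h]⟩
    | inv x _ hx =>
      obtain ⟨a, ha, rfl⟩ := hx
      exact ⟨a, ha, (hsq a ha).symm⟩
  · rintro ⟨a, ha, rfl⟩
    obtain ⟨w, hw, h⟩ := List.any_eq_true.1 (List.all_eq_true.1 em_gen a ha)
    rw [← wEl_one, eqI_iff.1 h]
    refine wEl_tuple_mem (fun l hl b hb => ?_) w hw
    obtain ⟨e, he, rfl⟩ := List.mem_map.1 hl
    rcases List.mem_cons.1 hb with rfl | hb
    · rw [el_idI]
      exact one_mem _
    · rw [List.mem_singleton.1 hb]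
      exact el_eGens e he

theorem sq_EM : ∀ e ∈ EM, e * e = 1 := by
  intro e he
  obtain ⟨a, ha, rfl⟩ := em_iff.1 he
  rw [← wEl_two, eqI_iff.1 (List.all_eq_true.1 em_sq a ha), wEl_nil]

theorem comm_EM {a b : GT} (ha : a ∈ EM) (hb : b ∈ EM) : a * b = b * a := by
  have h1 : a⁻¹ = a := inv_eq_of_mul_eq_one_right (sq_EM a ha)
  have h2 : b⁻¹ = b := inv_eq_of_mul_eq_one_right (sq_EM b hb)
  have h3 : (a * b)⁻¹ = a * b := inv_eq_of_mul_eq_one_right (sq_EM _ (mul_mem ha hb))
  rwa [mul_inv_rev, h1, h2, eq_comm] at h3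

theorem card_EM : Nat.card EM = 16 := by
  classical
  have hset : (EM : Set GT) = ((emIdx.map el).toFinset : Set GT) := by
    ext g
    simp [em_iff]
  have hnd : (emIdx.map el).Nodup := by
    refine List.Nodup.map_on (fun a ha b hb h => ?_) em_length.2
    have hd := List.all_eq_true.1 (List.all_eq_true.1 em_distinct a ha) b hb
    rw [Bool.or_eq_true, Bool.not_eq_true'] at hd
    rcases hd with hd | hd
    · exact Nat.eq_of_beq_eq_true hd
    · have he : eqI [a] [b] = true := eqI_iff.2 (by rw [wEl_one, wEl_one, h])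
      exact absurd (hd.symm.trans he) Bool.false_ne_true
  rw [← SetLike.coe_sort_coe, Nat.card_coe_set_eq, hset, Set.ncard_coe_finset, List.toFinset_card_of_nodup hnd,
    List.length_map, em_length.1]

theorem memEM_iff {w : List ℕ} : memEM w = true ↔ wEl w ∈ EM := by
  rw [memEM, List.any_eq_true, em_iff]
  constructor
  · rintro ⟨a, ha, h⟩
    exact ⟨a, ha, by rw [← wEl_one, eqI_iff.1 h]⟩
  · rintro ⟨a, ha, h⟩
    exact ⟨a, ha, eqI_iff.2 (by rw [wEl_one, h])⟩

theorem tM_mem_EM : tM ∈ EM := by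
  have h := em_base
  rw [Bool.and_eq_true, memEM_iff, memEM_iff, wEl_one, wEl_one] at h
  exact h.1

theorem sM_mem_EM : sM ∈ EM := by
  have h := em_base
  rw [Bool.and_eq_true, memEM_iff, memEM_iff, wEl_one, wEl_one] at h
  exact h.2

theorem conjEM_iff {w : List ℕ} {x : ℕ} : conjEM w x = true ↔ wEl w * el x * (wEl w)⁻¹ ∈ EM := by
  rw [conjEM, List.any_eq_true, em_iff]
  constructor
  · rintro ⟨a, ha, h⟩
    refine ⟨a, ha, ?_⟩
    rw [eq_mul_inv_iff_mul_eq, ← wEl_cons, ← eqI_iff.1 h, wEl_append, wEl_one]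
  · rintro ⟨a, ha, h⟩
    refine ⟨a, ha, eqI_iff.2 ?_⟩
    rw [wEl_cons, h, wEl_append, wEl_one, inv_mul_cancel_right]

theorem mem_NE_of_gens {g : GT} (h : ∀ e ∈ eGens, g * el e * g⁻¹ ∈ EM) : g ∈ NE := by
  have : Finite GT := CfsgLib.Sporadic.Conway.ThreeOut.finite_GT
  have hle : EM.map (MulAut.conj g).toMonoidHom ≤ EM := by
    rw [Subgroup.map_le_iff_le_comap, Subgroup.closure_le]
    rintro x (rfl | rfl | rfl | rfl)
    exacts [h 11 (by decide), h 12 (by decide), h 13 (by decide), h 14 (by decide)]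
  have heq : EM.map (MulAut.conj g).toMonoidHom = EM := by
    refine Subgroup.eq_of_le_of_card_ge hle (le_of_eq ?_)
    rw [Nat.card_congr (EM.equivMapOfInjective (MulAut.conj g).toMonoidHom (MulAut.conj g).injective).toEquiv]
  refine Subgroup.mem_normalizer_iff.2 fun x => ?_
  conv_rhs => rw [← heq]
  rw [Subgroup.mem_map]
  constructor
  · exact fun hx => ⟨x, hx, rfl⟩
  · rintro ⟨y, hy, he⟩
    rwa [← (MulAut.conj g).injective he]

theorem nE_iff {w : List ℕ} : nE w = true ↔ wEl w ∈ NE := by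
  rw [nE, List.all_eq_true]
  exact ⟨fun h => mem_NE_of_gens fun e he => conjEM_iff.1 (h e he), fun h e he =>
    conjEM_iff.2 ((Subgroup.mem_normalizer_iff.1 h _).1 (el_eGens e he))⟩

theorem mem_D1 {g : GT} : g ∈ D1 ↔ g * tM = tM * g ∧ g * sM = sM * g := by
  rw [Subgroup.mem_centralizer_iff]
  constructor
  · exact fun h => ⟨(h tM (Or.inl rfl)).symm, (h sM (Or.inr rfl)).symm⟩
  · rintro ⟨h1, h2⟩ x (rfl | rfl)
    exacts [h1.symm, h2.symm]

theorem inD_mem {a : ℕ} (h : inD a = true) : el a ∈ D1 := by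
  rw [inD, Bool.and_eq_true, eqI_iff, eqI_iff, wEl_two, wEl_two, wEl_two, wEl_two, el_tM, el_sM] at h
  exact mem_D1.2 h

theorem levD_mem : ∀ l ∈ levD, ∀ a ∈ l, el a ∈ D1 := fun l hl a ha =>
  inD_mem (List.all_eq_true.1 levD_inD a (List.mem_flatten.2 ⟨l, hl, ha⟩))

theorem levN_mem : ∀ l ∈ levN, ∀ a ∈ l, el a ∈ N1 := fun l hl a ha => by
  have h := List.all_eq_true.1 levN_inN a (List.mem_flatten.2 ⟨l, hl, ha⟩)
  rw [Bool.and_eq_true, nE_iff, wEl_one] at h
  exact ⟨inD_mem h.1, h.2⟩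

theorem D1_tuple (hD : Nat.card D1 = 4608) {g : GT} (hg : g ∈ D1) : ∃ w ∈ tuples levD, wEl w = g :=
  exists_tuple levD_ok levD_mem (hD.trans levD_length.symm) hg

theorem dOut_facts : el dOut ∈ D1 ∧ el dOut ∉ NE ∧ el dOut * el dOut ∉ NE := by
  have h := dOut_ok
  simp only [Bool.and_eq_true, Bool.not_eq_true'] at h
  refine ⟨inD_mem h.1.1, fun hn => ?_, fun hn => ?_⟩
  · rw [← wEl_one, ← nE_iff] at hn
    simp [hn] at h
  · rw [← wEl_two, ← nE_iff] at hn
    simp [hn] at h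

theorem card_N1 (hD : Nat.card D1 = 4608) : Nat.card N1 = 1536 := by
  have : Finite GT := CfsgLib.Sporadic.Conway.ThreeOut.finite_GT
  have h1 : 1536 ≤ Nat.card N1 := levN_length ▸ card_tuples_le levN_ok levN_mem
  set K := N1.subgroupOf D1 with hK
  have hc : Nat.card K = Nat.card N1 := Nat.card_congr (Subgroup.subgroupOfEquivOfLe inf_le_left).toEquiv
  have hmul := K.card_mul_index
  rw [hc, hD] at hmul
  obtain ⟨hd, hd1, hd2⟩ := dOut_facts
  have h0 : K.index ≠ 1 := fun h => hd1 (by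
    have hm : (⟨el dOut, hd⟩ : D1) ∈ K := by rw [Subgroup.index_eq_one.1 h]; trivial
    exact (Subgroup.mem_subgroupOf.1 hm).2)
  have h2 : K.index ≠ 2 := fun h => hd2 (by
    have hm := K.sq_mem_of_index_two h ⟨el dOut, hd⟩
    rw [sq, Subgroup.mem_subgroupOf] at hm
    exact hm.2)
  have h3 : 3 ≤ K.index := by
    have : K.index ≠ 0 := Subgroup.index_ne_zero_of_finite
    omega
  have h4 : Nat.card N1 * 3 ≤ 4608 := hmul ▸ Nat.mul_le_mul_left _ h3
  omega

theorem N1_tuple (hD : Nat.card D1 = 4608) {g : GT} (hg : g ∈ N1) : ∃ w ∈ tuples levN, wEl w = g :=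
  exists_tuple levN_ok levN_mem ((card_N1 hD).trans levN_length.symm) hg

theorem mem_N1_of_cent {g : GT} (hg : g ∈ centralizer (EM : Set GT)) : g ∈ N1 := by
  have h := Subgroup.mem_centralizer_iff.1 hg
  refine ⟨mem_D1.2 ⟨(h tM tM_mem_EM).symm, (h sM sM_mem_EM).symm⟩, mem_NE_of_gens fun e he => ?_⟩
  rw [← h (el e) (el_eGens e he), mul_inv_cancel_right]
  exact el_eGens e he

theorem cent_EM (hD : Nat.card D1 = 4608) : centralizer (EM : Set GT) = EM := by
  refine le_antisymm (fun g hg => ?_) fun g hg => Subgroup.mem_centralizer_iff.2 fun b hb => comm_EM hb hg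
  obtain ⟨w, hw, rfl⟩ := N1_tuple hD (mem_N1_of_cent hg)
  have h := List.all_eq_true.1 cent_ok w hw
  rw [Bool.or_eq_true, memEM_iff, Bool.not_eq_true'] at h
  refine h.resolve_left fun hf => ?_
  have : (eGens.all fun e => eqP (w ++ [e]) (e :: w)) = true := List.all_eq_true.2 fun e he => eqP_of_eq (by
    rw [wEl_append, wEl_one, wEl_cons, Subgroup.mem_centralizer_iff.1 hg (el e) (el_eGens e he)])
  exact Bool.false_ne_true (hf.symm.trans this)

theorem class_EM : ∀ e ∈ EM, e ≠ 1 → e ≠ tM → ∃ c ∈ Cc ⊓ NE, c * sM * c⁻¹ = e := by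
  intro e he h1 ht
  obtain ⟨a, ha, rfl⟩ := em_iff.1 he
  have h := List.all_eq_true.1 class_cover a ha
  simp only [Bool.or_eq_true, eqI_iff, wEl_one, wEl_nil, el_tM, List.any_eq_true] at h
  obtain ⟨p, hp, hpa⟩ := h.resolve_left (by rintro (h | h); exacts [h1 h, ht h])
  have hc := List.all_eq_true.1 class_ok p hp
  simp only [Bool.and_eq_true, eqI_iff, wEl_two, nE_iff, wEl_one, el_tM, el_sM] at hc
  refine ⟨el p.2, ⟨Subgroup.mem_centralizer_iff.2 ?_, hc.1.1.1.1.2⟩, ?_⟩
  · rintro x rfl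
    exact hc.1.1.1.1.1.symm
  · rw [hc.1.1.1.2, hpa, mul_inv_cancel_right]

theorem g_facts : gM ∈ NE ∧ gM ^ 3 = 1 ∧ gM * tM * gM⁻¹ = tM * sM ∧ gM * sM * gM⁻¹ = tM := by
  have h := g_ok
  simp only [Bool.and_eq_true, eqI_iff, nE_iff, wEl_three, wEl_two, wEl_one, wEl_nil, el_tM, el_sM, el_gM] at h
  obtain ⟨⟨⟨h1, h2⟩, h3⟩, h4⟩ := h
  refine ⟨h1, by rw [pow_three, ← mul_assoc, h2], ?_, ?_⟩
  · rw [h3, mul_inv_cancel_right]
  · rw [h4, mul_inv_cancel_right]

end CfsgLib.CoThreeUnique.Facts
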