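import Cfsg.Agent.Lib.CoThreeUnique.Facts.ElemCode

/-! Kernel checks for the facts on the subgroup of order sixteen and its normalizer. -/

set_option autoImplicit false
set_option maxRecDepth 100000
set_option Elab.async false

namespace CfsgLib.CoThreeUnique.Facts

/-- The generators of the subgroup of order sixteen. -/
def eGens : List ℕ := [11, 12, 13, 14]

/-- The word is one of the sixteen elements. -/
def memEM (w : List ℕ) : Bool := emIdx.any fun f => eqI w [f]

/-- The word conjugates the element into the sixteen elements. -/
def conjEM (w : List ℕ) (x : ℕ) : Bool := emIdx.any fun f => eqI (w ++ [x]) (f :: w)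

/-- The word normalizes the subgroup of order sixteen. -/
def nE (w : List ℕ) : Bool := eGens.all (conjEM w)

/-- The element commutes with the pair `tM, sM`. -/
def inD (a : ℕ) : Bool := eqI [a, 0] [0, a] && eqI [a, 1] [1, a]

/-- The number of fixed pairs of a word. -/
def fixW (w : List ℕ) : ℕ := ((List.range 276).filter fun i => Nat.beq (app (w.map cd) i) i).length

/-- The word is one of the relevant involutions. -/
def inS (w : List ℕ) : Bool := sIdx.any fun z => eqI w [z]

/-- The word agrees on the test points with one of the relevant involutions. -/
def inSP (w : List ℕ) : Bool := sIdx.any fun z => eqP w [z]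

/-- The identity among the sixteen elements. -/
def idI : ℕ := emIdx.headD 0

/-- The subgroup of order sixteen as a product of four pairs. -/
def levE : List (List ℕ) := eGens.map fun e => [idI, e]

/-- The twelve elements of a subgroup of order sixteen outside the four group. -/
def pairWords (x y : ℕ) : List (List ℕ) :=
  [[x], [y], [x, y]].flatMap fun v => [v, v ++ [0], v ++ [1], v ++ [0, 1]]

/-- The image of a letter of a relator. -/
def twist (f0 f1 : ℕ) (r : List ℕ) : List ℕ :=
  r.flatMap fun b => if b == 0 then [genA, f0] else if b == 1 then [genB, f1] else [f0, genAinv]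

/-- A relator as a word. -/
def relWord (r : List ℕ) : List ℕ := r.map fun b => if b == 0 then genA else if b == 1 then genB else genAinv

/-- The constraints on the image of the outer element. -/
def phiCond (w : List ℕ) : Bool :=
  conjP.all (fun p => eqP (w ++ [p.1]) (p.2 :: w)) && eqP (w ++ w ++ w) [powP] &&
    sandP.all (fun p => eqP (w ++ [p.1] ++ w) [p.2])

theorem em_idI : eqI [idI] [] = true := by decide +kernel

theorem em_gens : eGens.all (fun e => memEM [e]) = true := by decide +kernel

theorem em_base : (memEM [0] && memEM [1]) = true := by decide +kernel

theorem em_mul : (emIdx.all fun a => emIdx.all fun b => memEM [a, b]) = true := by decide +kernel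

theorem em_sq : (emIdx.all fun a => eqI [a, a] []) = true := by decide +kernel

theorem em_gen : (emIdx.all fun a => (tuples levE).any fun w => eqI [a] w) = true := by decide +kernel

theorem em_distinct : (emIdx.all fun a => emIdx.all fun b => Nat.beq a b || !eqI [a] [b]) = true := by decide +kernel

theorem em_length : emIdx.length = 16 ∧ emIdx.Nodup := by decide +kernel

theorem levD_ok : levOK baseD levD = true := by decide +kernel

theorem levD_inD : (levD.flatten.all inD) = true := by decide +kernel

theorem levD_length : (tuples levD).length = 4608 := by decide +kernel

theorem levN_ok : levOK baseN levN = true := by decide +kernel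

theorem levN_inN : (levN.flatten.all fun a => inD a && nE [a]) = true := by decide +kernel

theorem levN_length : (tuples levN).length = 1536 := by decide +kernel

theorem dOut_ok : (inD dOut && !nE [dOut] && !nE [dOut, dOut]) = true := by decide +kernel

theorem cent_ok : ((tuples levN).all fun w => !(eGens.all fun e => eqP (w ++ [e]) (e :: w)) || memEM w) = true := by
  decide +kernel

theorem fix_sM : fixW [1] = 36 := by decide +kernel

theorem pair_ok : (sIdx.all fun x => sIdx.all fun y =>
    !eqP [x, y] [y, x] || !(pairWords x y).all inSP || witIdx.any fun d => conjEM [d] x && conjEM [d] y) = true := by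
  decide +kernel

theorem wit_inD : (witIdx.all inD) = true := by decide +kernel

theorem class_ok : (classW.all fun p => eqI [p.2, 0] [0, p.2] && nE [p.2] && eqI [p.2, 1] [p.1, p.2] &&
    memEM [p.1] && !eqI [p.1] [] && !eqI [p.1] [0]) = true := by decide +kernel

theorem class_cover : (emIdx.all fun a => eqI [a] [] || eqI [a] [0] || classW.any fun p => eqI [a] [p.1]) = true := by
  decide +kernel

theorem class_distinct : (classW.length == 14 && classW.all fun p => classW.all fun q =>
    Nat.beq p.1 q.1 || !eqI [p.1] [q.1]) = true := by decide +kernel

theorem class_nodup : (classW.map Prod.fst).Nodup := by decide +kernel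

theorem gen_inN : (eqI [genA, 0] [0, genA] && nE [genA] && eqI [genB, 0] [0, genB] && nE [genB]) = true := by
  decide +kernel

theorem genW_ok : (genW.all fun p => eqI [p.1] p.2 && p.2.all fun a => Nat.beq a genA || Nat.beq a genB || Nat.beq a genAinv) = true := by
  decide +kernel

theorem genW_cover : ((levN.flatten ++ classW.map Prod.snd).all fun a => genW.any fun p => Nat.beq p.1 a) = true := by
  decide +kernel

theorem gen_inv : eqI [genA, genAinv] [] = true := by decide +kernel

theorem rel_ok : (relW.all fun r => eqI (relWord r) []) = true := by decide +kernel

theorem gauge_ok : (emIdx.all fun f0 => emIdx.all fun f1 => !(relW.all fun r => eqP (twist f0 f1 r) []) ||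
    emIdx.any fun f => eqI [genA, f0, f] [f, genA] && eqI [genB, f1, f] [f, genB]) = true := by decide +kernel

theorem phi_const : ((powP :: (conjP ++ sandP).flatMap fun p => [p.1, p.2]).all fun a => inD a && nE [a]) = true := by
  decide +kernel

theorem phi_dOut : phiCond [dOut] = true := by decide +kernel

theorem phi_ok : ((tuples levD).all fun w => !phiCond w || eqI w [dOut]) = true := by decide +kernel

theorem g_ok : (nE [2] && eqI [2, 2, 2] [] && eqI [2, 0] [0, 1, 2] && eqI [2, 1] [0, 2]) = true := by decide +kernel

end CfsgLib.CoThreeUnique.Facts
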