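import Cfsg.Agent.Lib.CoThreeUnique.Elements
import Cfsg.Agent.Lib.CoThreeUnique.Facts.ElemData

/-!
Words in a table of elements of the third Conway group, compared through their permutations of the
276 pairs; factorised listings of finite subgroups.
-/

set_option autoImplicit false
set_option maxRecDepth 100000

namespace CfsgLib.CoThreeUnique.Facts

open CfsgLib.Sporadic.Conway.ThreeOut (GT)

/-- The code `c` describes the permutation of `g`. -/
def Rep (c : ℕ) (g : GT) : Prop := ∀ i : Fin 276, (rho g i : ℕ) = pimg c i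

/-- The image of a point under a product of codes. -/
def app (w : List ℕ) (i : ℕ) : ℕ := w.foldr pimg i

/-- Two products of codes give the same permutation. -/
def eqW (a b : List ℕ) : Bool := (List.range 276).all fun i => Nat.beq (app a i) (app b i)

/-- The code of the identity. -/
def idC : ℕ := (List.range 276).foldl (fun a i => a + (i <<< (9 * i))) 0

theorem idC_ok : ((List.range 276).all fun i => Nat.beq (pimg idC i) i) = true := by decide +kernel

theorem rep_one : Rep idC 1 := fun i => by
  rw [map_one, Equiv.Perm.one_apply]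
  exact (Nat.eq_of_beq_eq_true (List.all_eq_true.1 idC_ok i (List.mem_range.2 i.2))).symm

theorem rep_app {cs : List ℕ} {gs : List GT} (h : List.Forall₂ Rep cs gs) (i : Fin 276) :
    (rho gs.prod i : ℕ) = app cs i := by
  induction h with
  | nil => simp [app]
  | @cons c g cs gs hcg _ ih =>
    rw [List.prod_cons, map_mul, Equiv.Perm.mul_apply, hcg, ih]
    rfl

theorem forall₂_map {cs : List ℕ} {gs : List GT} (h : ∀ k, Rep (cs.getD k idC) (gs.getD k 1)) (w : List ℕ) :
    List.Forall₂ Rep (w.map fun k => cs.getD k idC) (w.map fun k => gs.getD k 1) := by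
  induction w with
  | nil => exact List.Forall₂.nil
  | cons a w ih => exact List.Forall₂.cons (h a) ih

/-- The words of a stage give the codes of that stage. -/
def stepOK (cs : List ℕ) (new : List (ℕ × List ℕ)) : Bool :=
  new.all fun p => eqW [p.1] (p.2.map fun k => cs.getD k idC)

/-- The elements of a stage. -/
noncomputable def stepEl (gs : List GT) (new : List (ℕ × List ℕ)) : List GT :=
  gs ++ new.map fun p => (p.2.map fun k => gs.getD k 1).prod

/-- The codes of a stage. -/
def stepCode (cs : List ℕ) (new : List (ℕ × List ℕ)) : List ℕ := cs ++ new.map Prod.fst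

theorem rep_step {cs : List ℕ} {gs : List GT} (hlen : cs.length = gs.length)
    (h : ∀ k, Rep (cs.getD k idC) (gs.getD k 1)) {new : List (ℕ × List ℕ)} (hok : stepOK cs new = true) :
    ∀ k, Rep ((stepCode cs new).getD k idC) ((stepEl gs new).getD k 1) := by
  intro k
  unfold stepCode stepEl
  by_cases hk : k < cs.length
  · rw [List.getD_append _ _ _ _ hk, List.getD_append _ _ _ _ (hlen ▸ hk)]
    exact h k
  · rw [List.getD_append_right _ _ _ _ (Nat.le_of_not_lt hk),
      List.getD_append_right _ _ _ _ (hlen ▸ Nat.le_of_not_lt hk), ← hlen]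
    by_cases hn : k - cs.length < new.length
    · rw [List.getD_eq_getElem _ _ (by simpa using hn), List.getD_eq_getElem _ _ (by simpa using hn),
        List.getElem_map, List.getElem_map]
      intro i
      have hb := List.all_eq_true.1 hok _ (List.getElem_mem hn)
      have := List.all_eq_true.1 hb i (List.mem_range.2 i.2)
      rw [rep_app (forall₂_map h _) i]
      exact (Nat.eq_of_beq_eq_true this).symm
    · rw [List.getD_eq_default _ _ (by simpa using Nat.le_of_not_lt hn),
        List.getD_eq_default _ _ (by simpa using Nat.le_of_not_lt hn)]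
      exact rep_one

/-- The named elements. -/
noncomputable def el0 : List GT := [tM, sM, gM, eM, x0, x1, x2, x3, x4, x5, x6, eE0, eE1, eE2, eE3]

/-- Their codes. -/
def code0 : List ℕ := [Data.tMCode, Data.sMCode, Data.gMCode, Data.eMCode, Data.x0Code, Data.x1Code, Data.x2Code,
  Data.x3Code, Data.x4Code, Data.x5Code, Data.x6Code, Data.eE0Code, Data.eE1Code, Data.eE2Code, Data.eE3Code]

theorem rep0 : ∀ k, Rep (code0.getD k idC) (el0.getD k 1) := by
  intro k
  match k with
  | 0 => exact fun i => rho_tM i
  | 1 => exact fun i => rho_sM i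
  | 2 => exact fun i => rho_gM i
  | 3 => exact fun i => rho_eM i
  | 4 => exact fun i => rho_x0 i
  | 5 => exact fun i => rho_x1 i
  | 6 => exact fun i => rho_x2 i
  | 7 => exact fun i => rho_x3 i
  | 8 => exact fun i => rho_x4 i
  | 9 => exact fun i => rho_x5 i
  | 10 => exact fun i => rho_x6 i
  | 11 => exact fun i => rho_eE0 i
  | 12 => exact fun i => rho_eE1 i
  | 13 => exact fun i => rho_eE2 i
  | 14 => exact fun i => rho_eE3 i
  | n + 15 =>
    rw [List.getD_eq_default _ _ (by simp [code0]), List.getD_eq_default _ _ (by simp [el0])]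
    exact rep_one

/-- All codes. -/
def codes : List ℕ := stepCode (stepCode code0 lev1) lev2

/-- All elements. -/
noncomputable def els : List GT := stepEl (stepEl el0 lev1) lev2

theorem lev1_ok : stepOK code0 lev1 = true := by decide +kernel

theorem lev2_ok : stepOK (stepCode code0 lev1) lev2 = true := by decide +kernel

/-- The element of an index. -/
noncomputable def el (k : ℕ) : GT := els.getD k 1

/-- The code of an index. -/
def cd (k : ℕ) : ℕ := codes.getD k idC

/-- The product of a word of indices. -/
noncomputable def wEl (w : List ℕ) : GT := (w.map el).prod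

theorem rep_el : ∀ k, Rep (cd k) (el k) :=
  rep_step (by simp [stepCode, stepEl, code0, el0]) (rep_step rfl rep0 lev1_ok) lev2_ok

theorem rho_wEl (w : List ℕ) (i : Fin 276) : (rho (wEl w) i : ℕ) = app (w.map cd) i :=
  rep_app (forall₂_map rep_el w) i

/-- Two words give the same element. -/
def eqI (a b : List ℕ) : Bool := eqW (a.map cd) (b.map cd)

theorem eqI_iff {a b : List ℕ} : eqI a b = true ↔ wEl a = wEl b := by
  simp only [eqI, eqW, List.all_eq_true, List.mem_range]
  constructor
  · intro h
    refine eq_of_rho fun i => ?_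
    rw [rho_wEl, rho_wEl]
    exact Nat.eq_of_beq_eq_true (h i i.2)
  · intro h i hi
    have := congrArg (fun g => (rho g ⟨i, hi⟩ : ℕ)) h
    simp only [rho_wEl] at this
    rw [this]
    exact Nat.beq_refl _

/-- Two words agree on the test points: a consequence of equality. -/
def eqP (a b : List ℕ) : Bool := probe.all fun i => Nat.beq (app (a.map cd) i) (app (b.map cd) i)

theorem probe_ok : (probe.all fun i => Nat.blt i 276) = true := by decide +kernel

theorem eqP_of_eq {a b : List ℕ} (h : wEl a = wEl b) : eqP a b = true := by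
  refine List.all_eq_true.2 fun i hi => ?_
  have hlt : i < 276 := by simpa [Nat.blt_eq] using List.all_eq_true.1 probe_ok i hi
  have := congrArg (fun g => (rho g ⟨i, hlt⟩ : ℕ)) h
  simp only [rho_wEl] at this
  rw [this]
  exact Nat.beq_refl _

theorem wEl_nil : wEl [] = 1 := rfl

theorem wEl_cons (a : ℕ) (w : List ℕ) : wEl (a :: w) = el a * wEl w := by simp [wEl]

theorem wEl_append (a b : List ℕ) : wEl (a ++ b) = wEl a * wEl b := by simp [wEl]

theorem wEl_one (a : ℕ) : wEl [a] = el a := by simp [wEl]

theorem wEl_two (a b : ℕ) : wEl [a, b] = el a * el b := by simp [wEl]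

theorem wEl_three (a b c : ℕ) : wEl [a, b, c] = el a * el b * el c := by simp [wEl, mul_assoc]

theorem el_tM : el 0 = tM := rfl
theorem el_sM : el 1 = sM := rfl
theorem el_gM : el 2 = gM := rfl

/-- All products of one element from each list. -/
def tuples (L : List (List ℕ)) : List (List ℕ) :=
  L.foldr (fun l acc => l.flatMap fun a => acc.map (a :: ·)) [[]]

theorem tuples_cons (l : List ℕ) (L : List (List ℕ)) :
    tuples (l :: L) = l.flatMap fun a => (tuples L).map (a :: ·) := rfl

theorem wEl_tuple_mem {H : Subgroup GT} : ∀ {L : List (List ℕ)}, (∀ l ∈ L, ∀ a ∈ l, el a ∈ H) →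
    ∀ w ∈ tuples L, wEl w ∈ H
  | [], _, w, hw => by
    rw [List.mem_singleton.1 hw, wEl_nil]
    exact one_mem _
  | l :: L, h, w, hw => by
    simp only [tuples_cons, List.mem_flatMap, List.mem_map] at hw
    obtain ⟨a, ha, r, hr, rfl⟩ := hw
    rw [wEl_cons]
    exact mul_mem (h l List.mem_cons_self a ha)
      (wEl_tuple_mem (fun l' hl' => h l' (List.mem_cons_of_mem _ hl')) r hr)

/-- Transversal levels along a base: distinct images of the base point, later levels fixing it. -/
def levOK : List ℕ → List (List ℕ) → Bool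
  | _, [] => true
  | [], _ :: _ => false
  | b :: B, l :: L => Nat.blt b 276 && (l.all fun a => l.all fun a' =>
      Nat.beq a a' || !(Nat.beq (pimg (cd a) b) (pimg (cd a') b))) &&
      (L.flatten.all fun a => Nat.beq (pimg (cd a) b) b) && (l.Nodup : Bool) && levOK B L

theorem tuples_fix {b : ℕ} (hb : b < 276) : ∀ {L : List (List ℕ)},
    (∀ a ∈ L.flatten, pimg (cd a) b = b) → ∀ w ∈ tuples L, (rho (wEl w) ⟨b, hb⟩ : ℕ) = b
  | [], _, w, hw => by
    rw [List.mem_singleton.1 hw, wEl_nil, map_one]
    rfl
  | l :: L, h, w, hw => by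
    simp only [tuples_cons, List.mem_flatMap, List.mem_map] at hw
    obtain ⟨a, ha, r, hr, rfl⟩ := hw
    have h1 := tuples_fix hb (fun x hx => h x (by simp [hx])) r hr
    rw [wEl_cons, map_mul, Equiv.Perm.mul_apply, rep_el a, h1]
    exact h a (by simp [ha])

theorem tuples_inj : ∀ {B : List ℕ} {L : List (List ℕ)}, levOK B L = true →
    ((tuples L).map wEl).Nodup
  | _, [], _ => by simp [tuples]
  | [], _ :: _, h => by simp [levOK] at h
  | b :: B, l :: L, h => by
    simp only [levOK, Bool.and_eq_true, Nat.blt_eq, List.all_eq_true, Bool.or_eq_true, decide_eq_true_eq,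
      Bool.not_eq_true'] at h
    obtain ⟨⟨⟨⟨hb, hd⟩, hf⟩, hnd⟩, hrest⟩ := h
    have hfix := tuples_fix hb fun a ha => Nat.eq_of_beq_eq_true (hf a ha)
    have ih := tuples_inj hrest
    rw [tuples_cons, List.map_flatMap, List.nodup_flatMap]
    refine ⟨fun a _ => ?_, ?_⟩
    · have e : ((tuples L).map (a :: ·)).map wEl = ((tuples L).map wEl).map (el a * ·) := by
        simp [List.map_map, Function.comp_def, wEl_cons]
      rw [e]
      exact ih.map (mul_right_injective _)
    · refine hnd.imp_of_mem fun {a a'} ha ha' hne x hx hx' => ?_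
      simp only [List.mem_map] at hx hx'
      obtain ⟨_, ⟨r, hr, rfl⟩, rfl⟩ := hx
      obtain ⟨_, ⟨r', hr', rfl⟩, he⟩ := hx'
      have e := congrArg (fun g => (rho g ⟨b, hb⟩ : ℕ)) he
      simp only [wEl_cons, map_mul, Equiv.Perm.mul_apply, rep_el _ _, hfix r hr, hfix r' hr'] at e
      rcases hd a ha a' ha' with h1 | h1
      · exact hne (Nat.eq_of_beq_eq_true h1)
      · rw [e, Nat.beq_refl] at h1
        exact Bool.noConfusion h1

theorem tuples_sig : ∀ {B : List ℕ} {L : List (List ℕ)}, levOK B L = true → ∀ w ∈ tuples L, ∀ w' ∈ tuples L,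
    (∀ i ∈ B, ∀ hi : i < 276, rho (wEl w) ⟨i, hi⟩ = rho (wEl w') ⟨i, hi⟩) → wEl w = wEl w'
  | _, [], _, w, hw, w', hw', _ => by rw [List.mem_singleton.1 hw, List.mem_singleton.1 hw']
  | [], _ :: _, h, _, _, _, _, _ => by simp [levOK] at h
  | b :: B, l :: L, h, w, hw, w', hw', hs => by
    simp only [levOK, Bool.and_eq_true, Nat.blt_eq, List.all_eq_true, Bool.or_eq_true, decide_eq_true_eq,
      Bool.not_eq_true'] at h
    obtain ⟨⟨⟨⟨hb, hd⟩, hf⟩, -⟩, hrest⟩ := h
    have hfix := tuples_fix hb fun a ha => Nat.eq_of_beq_eq_true (hf a ha)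
    simp only [tuples_cons, List.mem_flatMap, List.mem_map] at hw hw'
    obtain ⟨a, ha, r, hr, rfl⟩ := hw
    obtain ⟨a', ha', r', hr', rfl⟩ := hw'
    have e := congrArg Fin.val (hs b List.mem_cons_self hb)
    simp only [wEl_cons, map_mul, Equiv.Perm.mul_apply, rep_el _ _, hfix r hr, hfix r' hr'] at e
    have haa : a = a' := by
      rcases hd a ha a' ha' with h1 | h1
      · exact Nat.eq_of_beq_eq_true h1
      · rw [e, Nat.beq_refl] at h1
        exact Bool.noConfusion h1
    subst haa
    rw [wEl_cons, wEl_cons, tuples_sig hrest r hr r' hr' fun i hi hlt => (rho (el a)).injective (by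
      have := hs i (List.mem_cons_of_mem _ hi) hlt
      rwa [wEl_cons, wEl_cons, map_mul, map_mul, Equiv.Perm.mul_apply, Equiv.Perm.mul_apply] at this)]

theorem card_tuples_le {H : Subgroup GT} {B : List ℕ} {L : List (List ℕ)} (hok : levOK B L = true)
    (hmem : ∀ l ∈ L, ∀ a ∈ l, el a ∈ H) : (tuples L).length ≤ Nat.card H := by
  classical
  have : Finite GT := CfsgLib.Sporadic.Conway.ThreeOut.finite_GT
  have := Fintype.ofFinite H
  have h1 : ((tuples L).map wEl).toFinset ⊆ (H : Set GT).toFinset := fun x hx => by
    simp only [List.mem_toFinset, List.mem_map] at hx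
    obtain ⟨w, hw, rfl⟩ := hx
    exact Set.mem_toFinset.2 (wEl_tuple_mem hmem w hw)
  have h2 := Finset.card_le_card h1
  rw [List.toFinset_card_of_nodup (tuples_inj hok), List.length_map, Set.toFinset_card] at h2
  rw [Nat.card_eq_fintype_card]
  exact h2

theorem exists_tuple {H : Subgroup GT} {B : List ℕ} {L : List (List ℕ)} (hok : levOK B L = true)
    (hmem : ∀ l ∈ L, ∀ a ∈ l, el a ∈ H) (hcard : Nat.card H = (tuples L).length) {g : GT} (hg : g ∈ H) :
    ∃ w ∈ tuples L, wEl w = g := by
  classical
  have : Finite GT := CfsgLib.Sporadic.Conway.ThreeOut.finite_GT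
  have := Fintype.ofFinite H
  have h1 : ((tuples L).map wEl).toFinset ⊆ (H : Set GT).toFinset := fun x hx => by
    simp only [List.mem_toFinset, List.mem_map] at hx
    obtain ⟨w, hw, rfl⟩ := hx
    exact Set.mem_toFinset.2 (wEl_tuple_mem hmem w hw)
  have h2 : ((tuples L).map wEl).toFinset = (H : Set GT).toFinset := by
    refine Finset.eq_of_subset_of_card_le h1 (le_of_eq ?_)
    rw [List.toFinset_card_of_nodup (tuples_inj hok), List.length_map, Set.toFinset_card, ← hcard,
      Nat.card_eq_fintype_card]
    rfl
  have h3 : g ∈ ((tuples L).map wEl).toFinset := by rw [h2]; exact Set.mem_toFinset.2 hg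
  simpa only [List.mem_toFinset, List.mem_map] using h3

end CfsgLib.CoThreeUnique.Facts
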