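import Cfsg.Agent.Lib.CoThreeUnique.Facts.ElemChecks

/-! The scan of the involutions with thirty-six fixed pairs in the centraliser of the four group. -/

set_option autoImplicit false
set_option maxRecDepth 100000
set_option Elab.async false

namespace CfsgLib.CoThreeUnique.Facts

/-- An involution with thirty-six fixed pairs is listed or lies in the four group. -/
def sTest (w : List ℕ) : Bool :=
  !eqP (w ++ w) [] || inS w || eqI w [] || eqI w [0] || eqI w [1] || eqI w [0, 1] || !Nat.beq (fixW w) 36

/-- The tuples starting with the given part of the first transversal. -/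
def sPart (k : ℕ) : List (List ℕ) := tuples (((levD.headD []).drop (3 * k)).take 3 :: levD.tail)

theorem s_ok0 : (sPart 0).all sTest = true := by decide +kernel

theorem s_ok1 : (sPart 1).all sTest = true := by decide +kernel

theorem s_ok2 : (sPart 2).all sTest = true := by decide +kernel

theorem s_ok3 : (sPart 3).all sTest = true := by decide +kernel

theorem levD_split : levD = (levD.headD []) :: levD.tail := by decide +kernel

theorem levD_head : levD.headD [] = ((levD.headD []).drop 0).take 3 ++ ((levD.headD []).drop 3).take 3 ++
    ((levD.headD []).drop 6).take 3 ++ ((levD.headD []).drop 9).take 3 := by decide +kernel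

theorem s_ok : (tuples levD).all sTest = true := by
  refine List.all_eq_true.2 fun w hw => ?_
  rw [levD_split, tuples_cons, List.mem_flatMap] at hw
  obtain ⟨a, ha, hw⟩ := hw
  rw [levD_head, List.mem_append, List.mem_append, List.mem_append] at ha
  have hm : ∀ k, a ∈ ((levD.headD []).drop (3 * k)).take 3 → w ∈ sPart k := fun k h =>
    List.mem_flatMap.2 ⟨a, h, hw⟩
  rcases ha with ((h | h) | h) | h
  · exact List.all_eq_true.1 s_ok0 w (hm 0 h)
  · exact List.all_eq_true.1 s_ok1 w (hm 1 h)
  · exact List.all_eq_true.1 s_ok2 w (hm 2 h)
  · exact List.all_eq_true.1 s_ok3 w (hm 3 h)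

end CfsgLib.CoThreeUnique.Facts
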