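import Cfsg.Agent.Lib.CoThreeUnique.Facts.ElemBase
import Cfsg.Agent.Lib.CoThreeUnique.Facts.ElemScan

/-! The elementary abelian subgroups of order sixteen whose involutions are fused to `sM`. -/

set_option autoImplicit false
set_option maxRecDepth 100000

namespace CfsgLib.CoThreeUnique.Facts

open CfsgLib.Sporadic.Conway.ThreeOut (GT)
open Subgroup

/-- The number of fixed pairs. -/
noncomputable def fixN (g : GT) : ℕ := Nat.card {i : Fin 276 // rho g i = i}

theorem fixN_conj (c g : GT) : fixN (c * g * c⁻¹) = fixN g := by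
  refine Nat.card_congr ((rho c).symm.subtypeEquiv fun i => ?_)
  rw [map_mul, map_mul, map_inv, Equiv.Perm.mul_apply, Equiv.Perm.mul_apply, Equiv.Perm.inv_def,
    ← Equiv.eq_symm_apply]

theorem fixW_eq (w : List ℕ) : fixW w = fixN (wEl w) := by
  classical
  rw [fixN, Nat.card_eq_fintype_card, Fintype.card_subtype, fixW, ← List.toFinset_card_of_nodup
    (List.nodup_range.filter _)]
  refine (Finset.card_bij (fun (i : Fin 276) _ => (i : ℕ)) (fun i hi => ?_) (fun (a : Fin 276) _ (b : Fin 276) _ h => Fin.ext h) fun b hb => ?_).symm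
  · simp only [Finset.mem_filter, Finset.mem_univ, true_and] at hi
    simp only [List.mem_toFinset, List.mem_filter, List.mem_range]
    refine ⟨i.2, ?_⟩
    rw [← rho_wEl w i, hi]
    exact Nat.beq_refl _
  · simp only [List.mem_toFinset, List.mem_filter, List.mem_range] at hb
    refine ⟨⟨b, hb.1⟩, ?_, rfl⟩
    simp only [Finset.mem_filter, Finset.mem_univ, true_and]
    refine Fin.ext ?_
    rw [rho_wEl]
    exact Nat.eq_of_beq_eq_true hb.2

/-- An element of the four group on `tM` and `sM`. -/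
def InV (z : GT) : Prop := z = 1 ∨ z = tM ∨ z = sM ∨ z = tM * sM

theorem exists_sIdx (hD : Nat.card D1 = 4608) {z : GT} (hz : z ∈ D1) (h2 : z * z = 1) (hV : ¬ InV z)
    {c : GT} (hc : c * sM * c⁻¹ = z) : ∃ a ∈ sIdx, el a = z := by
  obtain ⟨w, hw, rfl⟩ := D1_tuple hD hz
  have h := List.all_eq_true.1 s_ok w hw
  simp only [sTest, Bool.or_eq_true, Bool.not_eq_true', inS, List.any_eq_true] at h
  have hsq : eqP (w ++ w) [] = true := eqP_of_eq (by rw [wEl_append, wEl_nil, h2])
  have hf : fixW w = 36 := by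
    rw [← fix_sM, fixW_eq, fixW_eq, wEl_one, el_sM, ← hc, fixN_conj]
  rcases h with (((((h | ⟨a, ha, h⟩) | h) | h) | h) | h) | h
  · exact absurd (h.symm.trans hsq) Bool.false_ne_true
  · exact ⟨a, ha, by rw [← wEl_one, eqI_iff.1 h]⟩
  · exact absurd (Or.inl (by rw [eqI_iff.1 h, wEl_nil])) hV
  · exact absurd (Or.inr (Or.inl (by rw [eqI_iff.1 h, wEl_one, el_tM]))) hV
  · exact absurd (Or.inr (Or.inr (Or.inl (by rw [eqI_iff.1 h, wEl_one, el_sM])))) hV
  · exact absurd (Or.inr (Or.inr (Or.inr (by rw [eqI_iff.1 h, wEl_two, el_tM, el_sM])))) hV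
  · rw [hf, Nat.beq_refl] at h
    exact Bool.noConfusion h

theorem tM_ok : eqI [0] [] = false := by decide +kernel

theorem tM_ne_one : tM ≠ 1 := fun h => by
  have he : eqI [0] [] = true := eqI_iff.2 (by rw [wEl_one, wEl_nil, el_tM, h])
  exact Bool.false_ne_true (tM_ok.symm.trans he)

/-- Three elements of a group of exponent two generate at most eight. -/
theorem exists_not_mem_three {H : Type*} [CommGroup H] [Finite H] (hexp : ∀ x : H, x * x = 1)
    (hcard : 8 < Nat.card H) (a b c : H) : ∃ y, y ∉ Subgroup.closure ({a, b, c} : Set H) := by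
  by_contra hall
  push_neg at hall
  let f : Fin 2 × Fin 2 × Fin 2 → H := fun p => a ^ p.1.val * b ^ p.2.1.val * c ^ p.2.2.val
  have hpow : ∀ (x : H) (n : ℕ), x ^ n = x ^ (n % 2) := fun x n => by
    conv_lhs => rw [← Nat.mod_add_div n 2, pow_add, pow_mul, sq, hexp, one_pow, mul_one]
  have hsurj : Function.Surjective f := by
    intro y
    obtain ⟨i, j, k, rfl⟩ : ∃ i j k : ℕ, y = a ^ i * b ^ j * c ^ k := by
      induction hall y using Subgroup.closure_induction with
      | mem x hx =>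
        rcases hx with rfl | rfl | rfl
        exacts [⟨1, 0, 0, by simp⟩, ⟨0, 1, 0, by simp⟩, ⟨0, 0, 1, by simp⟩]
      | one => exact ⟨0, 0, 0, by simp⟩
      | mul x y _ _ hx hy =>
        obtain ⟨i, j, k, rfl⟩ := hx
        obtain ⟨i', j', k', rfl⟩ := hy
        exact ⟨i + i', j + j', k + k', by simp only [pow_add]; ac_rfl⟩
      | inv x _ hx =>
        obtain ⟨i, j, k, rfl⟩ := hx
        exact ⟨i, j, k, inv_eq_of_mul_eq_one_right (hexp _)⟩
    exact ⟨(⟨i % 2, Nat.mod_lt _ two_pos⟩, ⟨j % 2, Nat.mod_lt _ two_pos⟩, ⟨k % 2, Nat.mod_lt _ two_pos⟩),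
      by simp only [f, ← hpow]⟩
  have := Nat.card_le_card_of_surjective f hsurj
  simp only [Nat.card_eq_fintype_card, Fintype.card_prod, Fintype.card_fin] at this
  omega

theorem two_mul_card_le {H : Subgroup GT} {K : Subgroup GT} (hle : H ≤ K) {y : GT} (hy : y ∈ K) (hn : y ∉ H) :
    2 * Nat.card H ≤ Nat.card K := by
  have : Finite GT := CfsgLib.Sporadic.Conway.ThreeOut.finite_GT
  obtain ⟨k, hk⟩ := Subgroup.card_dvd_of_le hle
  rw [hk, mul_comm]
  refine Nat.mul_le_mul_left _ ?_
  rcases k with _ | _ | k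
  · exact absurd hk (by simpa using Nat.card_pos.ne')
  · exact absurd ((Subgroup.eq_of_le_of_card_ge hle (le_of_eq (by omega))) ▸ hy) hn
  · omega

theorem unique_EM (hD : Nat.card D1 = 4608) :
    ∀ F : Subgroup GT, F ≤ Cc → Nat.card F = 16 → (∀ x ∈ F, x * x = 1) → tM ∈ F →
    (∀ x ∈ F, x ≠ 1 → x ≠ tM → ∃ c ∈ Cc, c * sM * c⁻¹ = x) → ∃ c ∈ Cc, ∀ x ∈ F, c * x * c⁻¹ ∈ EM := by
  intro F hFC hcard hsq ht hclass
  have : Finite GT := CfsgLib.Sporadic.Conway.ThreeOut.finite_GT
  letI : CommGroup F :=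
    { (inferInstance : Group F) with
      mul_comm := fun a b => by
        have hi : ∀ u : F, u⁻¹ = u := fun u => inv_eq_of_mul_eq_one_right (Subtype.ext (hsq u u.2))
        rw [← hi (a * b), mul_inv_rev, hi, hi] }
  have hexp : ∀ u : F, u * u = 1 := fun u => Subtype.ext (hsq u u.2)
  have hcomm : ∀ {u v : GT}, u ∈ F → v ∈ F → u * v = v * u := fun {u v} hu hv =>
    congrArg Subtype.val (mul_comm (⟨u, hu⟩ : F) ⟨v, hv⟩)
  obtain ⟨x0, hx0⟩ := exists_not_mem_three hexp (by omega) (⟨tM, ht⟩ : F) ⟨tM, ht⟩ ⟨tM, ht⟩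
  have hx01 : (x0 : GT) ≠ 1 := fun h => hx0 (by rw [show x0 = 1 from Subtype.ext h]; exact one_mem _)
  have hx0t : (x0 : GT) ≠ tM := fun h => hx0 (Subgroup.subset_closure (Or.inl (Subtype.ext h)))
  obtain ⟨c, hc, hcx⟩ := hclass x0 x0.2 hx01 hx0t
  have hct : c⁻¹ * tM * c = tM := by
    rw [mul_assoc, Subgroup.mem_centralizer_iff.1 hc tM rfl, inv_mul_cancel_left]
  have hcs : c⁻¹ * (x0 : GT) * c = sM := by rw [← hcx]; group
  have hsrc : ∀ {z : F}, ¬ InV (c⁻¹ * (z : GT) * c) → ∃ a ∈ sIdx, el a = c⁻¹ * (z : GT) * c := by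
    intro z hV
    have hz1 : (z : GT) ≠ 1 := fun h => hV (Or.inl (by rw [h]; group))
    have hzt : (z : GT) ≠ tM := fun h => hV (Or.inr (Or.inl (by rw [h, hct])))
    obtain ⟨e, _, hez⟩ := hclass z z.2 hz1 hzt
    refine exists_sIdx hD (mem_D1.2 ⟨?_, ?_⟩) ?_ hV (c := c⁻¹ * e) ?_
    · conv_lhs => rw [← hct]
      conv_rhs => rw [← hct]
      simp only [mul_assoc, mul_inv_cancel_left]
      rw [← mul_assoc (z : GT), hcomm z.2 ht, mul_assoc]
    · conv_lhs => rw [← hcs]
      conv_rhs => rw [← hcs]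
      simp only [mul_assoc, mul_inv_cancel_left]
      rw [← mul_assoc (z : GT), hcomm z.2 x0.2, mul_assoc]
    · rw [show c⁻¹ * (z : GT) * c * (c⁻¹ * (z : GT) * c) = c⁻¹ * ((z : GT) * z) * c by group, hsq z z.2]
      group
    · rw [← hez]
      group
  -- the four group and two more generators
  let T : F := ⟨tM, ht⟩
  obtain ⟨x, hx⟩ := exists_not_mem_three hexp (by omega) T x0 x0
  obtain ⟨y, hy⟩ := exists_not_mem_three hexp (by omega) T x0 x
  set P := Subgroup.closure ({T, x0, x0} : Set F) with hP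
  have hPV : ∀ {z : F}, InV (c⁻¹ * (z : GT) * c) → z ∈ P := by
    intro z hV
    have hT : T ∈ P := Subgroup.subset_closure (Or.inl rfl)
    have hX : x0 ∈ P := Subgroup.subset_closure (Or.inr (Or.inl rfl))
    have hback : ∀ {v : F}, c⁻¹ * (z : GT) * c = c⁻¹ * (v : GT) * c → z = v := fun h =>
      Subtype.ext (mul_left_cancel (mul_right_cancel h))
    rcases hV with h | h | h | h
    · rw [hback (v := 1) (by rw [h]; simp)]
      exact one_mem _
    · rw [hback (v := T) (by rw [h, hct])]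
      exact hT
    · rw [hback (v := x0) (by rw [h, hcs])]
      exact hX
    · rw [hback (v := T * x0) (by
        rw [h, Subgroup.coe_mul]
        conv_lhs => rw [← hct, ← hcs]
        simp only [T]
        group)]
      exact mul_mem hT hX
  set P3 := Subgroup.closure ({T, x0, x} : Set F) with hP3
  have hP3x : x ∈ P3 := Subgroup.subset_closure (Or.inr (Or.inr rfl))
  have hPle : P ≤ P3 := by
    rw [hP, Subgroup.closure_le]
    rintro u (rfl | rfl | rfl)
    exacts [Subgroup.subset_closure (Or.inl rfl), Subgroup.subset_closure (Or.inr (Or.inl rfl)),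
      Subgroup.subset_closure (Or.inr (Or.inl rfl))]
  have hxy : x * y ∉ P := fun h => hy (by
    have := mul_mem (inv_mem hP3x) (hPle h)
    rwa [inv_mul_cancel_left] at this)
  obtain ⟨a, ha, hax⟩ := hsrc (z := x) fun h => hx (hPV h)
  obtain ⟨b, hb, hby⟩ := hsrc (z := y) fun h => hy (hPle (hPV h))
  have hin : ∀ (z : F), z ∉ P → ∀ w : List ℕ, wEl w = c⁻¹ * (z : GT) * c → inSP w = true := by
    intro z hz w hw
    obtain ⟨e, he, h⟩ := hsrc fun h => hz (hPV h)
    exact List.any_eq_true.2 ⟨e, he, eqP_of_eq (by rw [hw, wEl_one, h])⟩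
  have hpair : (pairWords a b).all inSP = true := by
    have hP1 : T ∈ P := Subgroup.subset_closure (Or.inl rfl)
    have hP2 : x0 ∈ P := Subgroup.subset_closure (Or.inr (Or.inl rfl))
    have base : ∀ (z : F), z ∉ P → ∀ v : List ℕ, wEl v = c⁻¹ * (z : GT) * c →
        ∀ w ∈ [v, v ++ [0], v ++ [1], v ++ [0, 1]], inSP w = true := by
      intro z hz v hv w hw
      simp only [List.mem_cons, List.not_mem_nil, or_false] at hw
      rcases hw with rfl | rfl | rfl | rfl
      · exact hin z hz _ hv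
      · refine hin (z * T) (fun h => hz (by simpa using mul_mem h (inv_mem hP1))) _ ?_
        rw [wEl_append, hv, wEl_one, el_tM, Subgroup.coe_mul]
        conv_lhs => rw [← hct]
        simp only [T]
        group
      · refine hin (z * x0) (fun h => hz (by simpa using mul_mem h (inv_mem hP2))) _ ?_
        rw [wEl_append, hv, wEl_one, el_sM, Subgroup.coe_mul, ← hcs]
        group
      · refine hin (z * (T * x0)) (fun h => hz ((P.mul_mem_cancel_right (mul_mem hP1 hP2)).1 h)) _ ?_
        rw [wEl_append, hv, wEl_two, el_tM, el_sM, Subgroup.coe_mul, Subgroup.coe_mul]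
        conv_lhs => rw [← hct, ← hcs]
        simp only [T]
        group
    refine List.all_eq_true.2 fun w hw => ?_
    simp only [pairWords, List.mem_flatMap, List.mem_cons, List.not_mem_nil, or_false] at hw
    obtain ⟨v, hv, hw⟩ := hw
    have hw' : w ∈ [v, v ++ [0], v ++ [1], v ++ [0, 1]] := by
      simp only [List.mem_cons, List.not_mem_nil, or_false]
      exact hw
    rcases hv with rfl | rfl | rfl
    · exact base x hx _ (by rw [wEl_one, hax]) w hw'
    · exact base y (fun h => hy (hPle h)) _ (by rw [wEl_one, hby]) w hw'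
    · refine base (x * y) hxy _ ?_ w hw'
      rw [wEl_two, hax, hby, Subgroup.coe_mul]
      group
  have h := List.all_eq_true.1 (List.all_eq_true.1 pair_ok a ha) b hb
  simp only [Bool.or_eq_true, Bool.not_eq_true', List.any_eq_true, Bool.and_eq_true, conjEM_iff, wEl_one] at h
  obtain ⟨d, hd, hdx, hdy⟩ := (h.resolve_left (by
    rintro (h | h)
    · have he : eqP [a, b] [b, a] = true := eqP_of_eq (by
        rw [wEl_two, wEl_two, hax, hby]
        simp only [mul_assoc, mul_inv_cancel_left]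
        rw [← mul_assoc (x : GT), hcomm x.2 y.2, mul_assoc])
      exact Bool.false_ne_true (h.symm.trans he)
    · exact Bool.false_ne_true (h.symm.trans hpair)))
  have hdD := inD_mem (List.all_eq_true.1 wit_inD d hd)
  obtain ⟨hdt, hds⟩ := mem_D1.1 hdD
  refine ⟨el d * c⁻¹, mul_mem (Subgroup.mem_centralizer_iff.2 (by rintro u rfl; exact hdt.symm)) (inv_mem hc), ?_⟩
  let φ : F →* GT := (MulAut.conj (el d * c⁻¹)).toMonoidHom.comp F.subtype
  let J : Subgroup F := EM.comap φ
  have hJ : ∀ z : F, z ∈ J ↔ el d * (c⁻¹ * (z : GT) * c) * (el d)⁻¹ ∈ EM := fun z => by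
    show el d * c⁻¹ * (z : GT) * (el d * c⁻¹)⁻¹ ∈ EM ↔ _
    rw [show el d * c⁻¹ * (z : GT) * (el d * c⁻¹)⁻¹ = el d * (c⁻¹ * (z : GT) * c) * (el d)⁻¹ by group]
  have hJT : T ∈ J := (hJ T).2 (by
    show el d * (c⁻¹ * tM * c) * (el d)⁻¹ ∈ EM
    rw [hct, hdt, mul_inv_cancel_right]
    exact tM_mem_EM)
  have hJx0 : x0 ∈ J := (hJ x0).2 (by rw [hcs, hds, mul_inv_cancel_right]; exact sM_mem_EM)
  have hJx : x ∈ J := (hJ x).2 (by rw [← hax]; exact hdx)
  have hJy : y ∈ J := (hJ y).2 (by rw [← hby]; exact hdy)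
  have hJtop : J = ⊤ := by
    have hP3le : P3 ≤ J := by
      rw [hP3, Subgroup.closure_le]
      rintro u (rfl | rfl | rfl)
      exacts [hJT, hJx0, hJx]
    have hmap : ∀ {A : Subgroup F}, Nat.card (A.map F.subtype) = Nat.card A := fun {A} =>
      Nat.card_congr (A.equivMapOfInjective F.subtype Subtype.val_injective).toEquiv.symm
    have hmem : ∀ {A : Subgroup F} {u : F}, (u : GT) ∈ A.map F.subtype ↔ u ∈ A := fun {A u} =>
      Subgroup.mem_map_iff_mem Subtype.val_injective
    have step : ∀ {A B : Subgroup F}, A ≤ B → ∀ {u : F}, u ∈ B → u ∉ A → 2 * Nat.card A ≤ Nat.card B := by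
      intro A B hAB u hu hnu
      rw [← hmap (A := A), ← hmap (A := B)]
      exact two_mul_card_le (Subgroup.map_mono hAB) (y := (u : GT)) (hmem.2 hu) (fun h => hnu (hmem.1 h))
    have h1 : 2 * Nat.card (⊥ : Subgroup F) ≤ Nat.card (Subgroup.zpowers T) :=
      step bot_le (Subgroup.mem_zpowers T) fun h => by
        have h' : (T : GT) = 1 := congrArg Subtype.val (Subgroup.mem_bot.1 h)
        exact absurd h' (fun e : tM = 1 => tM_ne_one e)
    have h2 : 2 * Nat.card (Subgroup.zpowers T) ≤ Nat.card P :=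
      step (Subgroup.zpowers_le.2 (Subgroup.subset_closure (Or.inl rfl)))
        (Subgroup.subset_closure (Or.inr (Or.inl rfl))) fun h => hx0 (by
          refine Subgroup.zpowers_le.2 ?_ h
          exact Subgroup.subset_closure (Or.inl rfl))
    have h3 : 2 * Nat.card P ≤ Nat.card P3 := step hPle hP3x hx
    have h4 : 2 * Nat.card P3 ≤ Nat.card J := step hP3le hJy hy
    rw [Subgroup.card_bot] at h1
    exact Subgroup.eq_top_of_le_card _ (by omega)
  intro z hz
  have hzJ : (⟨z, hz⟩ : F) ∈ J := by rw [hJtop]; trivial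
  exact hzJ

end CfsgLib.CoThreeUnique.Facts
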