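import Cfsg.Agent.Lib.CoThreeUnique.Endgame
import Cfsg.Agent.Lib.CoThreeUnique.Facts.EndData

/-!
The structure of the centraliser of `tM` and `eM`: the facts used at the end of the uniqueness proof.
-/

set_option autoImplicit false
set_option maxRecDepth 100000

namespace CfsgLib.CoThreeUnique.EndProof

open Subgroup
open CfsgLib.Sporadic.Conway.ThreeOut (GT)

/-! ### Words of packed permutations -/

/-- The image of a point under a word of packed permutations. -/
def wimg (w : List ℕ) (i : ℕ) : ℕ := w.foldr pimg i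

/-- Equality of two words on all points. -/
def eqW (v w : List ℕ) : Bool := (List.range 276).all fun i => Nat.beq (wimg v i) (wimg w i)

/-- The word describes the action of the element. -/
def PW (g : GT) (w : List ℕ) : Prop := ∀ i : Fin 276, (rho g i : ℕ) = wimg w i

theorem PW.one : PW 1 [] := fun i => by rw [map_one]; rfl

theorem PW.mul {g h : GT} {v w : List ℕ} (hg : PW g v) (hh : PW h w) : PW (g * h) (v ++ w) := fun i => by
  rw [map_mul, Equiv.Perm.mul_apply, hg, hh]
  exact List.foldr_append.symm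

theorem PW.congr {g : GT} {v w : List ℕ} (hg : PW g v) (h : eqW v w = true) : PW g w := fun i =>
  (hg i).trans (Nat.eq_of_beq_eq_true (List.all_eq_true.1 h i (List.mem_range.2 i.2)))

theorem PW.eq_iff {g h : GT} {v w : List ℕ} (hg : PW g v) (hh : PW h w) : g = h ↔ eqW v w = true := by
  constructor
  · intro e
    subst e
    refine List.all_eq_true.2 fun i hi => ?_
    have h1 := (hg ⟨i, List.mem_range.1 hi⟩).symm.trans (hh ⟨i, List.mem_range.1 hi⟩)
    rw [show wimg v i = wimg w i from h1]
    exact Nat.beq_refl _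
  · intro e
    exact eq_of_rho fun i => ((hg.congr e) i).trans (hh i).symm

theorem PW.ne {g h : GT} {v w : List ℕ} (hg : PW g v) (hh : PW h w) (e : eqW v w = false) : g ≠ h :=
  fun e' => by rw [(hg.eq_iff hh).1 e'] at e; exact Bool.noConfusion e

theorem pw_tM : PW tM [Data.tMCode] := rho_tM
theorem pw_eM : PW eM [Data.eMCode] := rho_eM
theorem pw_nM : PW nM [Data.nMCode] := rho_nM
theorem pw_x0 : PW x0 [Data.x0Code] := rho_x0
theorem pw_x1 : PW x1 [Data.x1Code] := rho_x1
theorem pw_x2 : PW x2 [Data.x2Code] := rho_x2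
theorem pw_x3 : PW x3 [Data.x3Code] := rho_x3
theorem pw_x4 : PW x4 [Data.x4Code] := rho_x4
theorem pw_x5 : PW x5 [Data.x5Code] := rho_x5
theorem pw_x6 : PW x6 [Data.x6Code] := rho_x6

/-! ### Elements -/

theorem exists_g0 : ∃ g, PW g [EndData.g0Code] :=
  ⟨_, ((pw_x0).mul pw_x0).congr (by decide +kernel)⟩

/-- A generator of the centraliser of `tM` and `eM`, a product of the named elements. -/
noncomputable def g0 : GT := exists_g0.choose

theorem pw_g0 : PW g0 [EndData.g0Code] := exists_g0.choose_spec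

theorem exists_g1 : ∃ g, PW g [EndData.g1Code] :=
  ⟨_, ((((((((((pw_x3).mul pw_x3).mul pw_x3).mul pw_x4).mul pw_x4).mul pw_x4).mul pw_x5).mul
    pw_x4).mul pw_x3).mul pw_x1).congr (by decide +kernel)⟩

/-- A generator of the centraliser of `tM` and `eM`, a product of the named elements. -/
noncomputable def g1 : GT := exists_g1.choose

theorem pw_g1 : PW g1 [EndData.g1Code] := exists_g1.choose_spec

theorem exists_g2 : ∃ g, PW g [EndData.g2Code] :=
  ⟨_, (((((((((((((((((pw_x0).mul pw_x0).mul pw_x0).mul pw_x1).mul pw_x1).mul pw_x1).mul pw_x2).mul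
    pw_x2).mul pw_x2).mul pw_x3).mul pw_x3).mul pw_x3).mul pw_x4).mul pw_x3).mul pw_x2).mul
    pw_x1).mul pw_x0).congr (by decide +kernel)⟩

/-- A generator of the centraliser of `tM` and `eM`, a product of the named elements. -/
noncomputable def g2 : GT := exists_g2.choose

theorem pw_g2 : PW g2 [EndData.g2Code] := exists_g2.choose_spec

theorem exists_g3 : ∃ g, PW g [EndData.g3Code] :=
  ⟨_, (((((((((((((((((pw_x0).mul pw_x0).mul pw_x0).mul pw_x1).mul pw_x1).mul pw_x1).mul pw_x3).mul
    pw_x3).mul pw_x3).mul pw_x2).mul pw_x2).mul pw_x2).mul pw_x6).mul pw_x2).mul pw_x3).mul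
    pw_x1).mul pw_x0).congr (by decide +kernel)⟩

/-- A generator of the centraliser of `tM` and `eM`, a product of the named elements. -/
noncomputable def g3 : GT := exists_g3.choose

theorem pw_g3 : PW g3 [EndData.g3Code] := exists_g3.choose_spec

theorem exists_g4 : ∃ g, PW g [EndData.g4Code] :=
  ⟨_, (((((((((((((((((pw_x2).mul pw_x2).mul pw_x2).mul pw_x3).mul pw_x3).mul pw_x3).mul pw_x2).mul
    pw_x2).mul pw_x2).mul pw_x6).mul pw_x6).mul pw_x6).mul pw_x4).mul pw_x2).mul pw_x3).mul
    pw_x2).mul pw_x1).congr (by decide +kernel)⟩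

/-- A generator of the centraliser of `tM` and `eM`, a product of the named elements. -/
noncomputable def g4 : GT := exists_g4.choose

theorem pw_g4 : PW g4 [EndData.g4Code] := exists_g4.choose_spec

theorem exists_g5 : ∃ g, PW g [EndData.g5Code] :=
  ⟨_, (((((((((((((((((((((pw_x5).mul pw_x5).mul pw_x5).mul pw_x4).mul pw_x4).mul pw_x4).mul
    pw_x6).mul pw_x6).mul pw_x6).mul pw_x2).mul pw_x2).mul pw_x2).mul pw_x3).mul pw_x3).mul
    pw_x3).mul pw_x1).mul pw_x2).mul pw_x6).mul pw_x4).mul pw_x5).mul pw_x1).congr (by decide +kernel)⟩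

/-- A generator of the centraliser of `tM` and `eM`, a product of the named elements. -/
noncomputable def g5 : GT := exists_g5.choose

theorem pw_g5 : PW g5 [EndData.g5Code] := exists_g5.choose_spec

/-- The generators of the centraliser. -/
noncomputable def kgen : Fin 6 → GT := ![g0, g1, g2, g3, g4, g5]

/-- Their words. -/
def kW : Fin 6 → List ℕ :=
  ![[EndData.g0Code], [EndData.g1Code], [EndData.g2Code], [EndData.g3Code], [EndData.g4Code],
    [EndData.g5Code]]

theorem pw_kgen (s : Fin 6) : PW (kgen s) (kW s) := by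
  fin_cases s
  exacts [pw_g0, pw_g1, pw_g2, pw_g3, pw_g4, pw_g5]

/-- The generators of the 2-core. -/
noncomputable def pgen : Fin 6 → GT := ![g0, g1, g2, g3, g4 * g4, g5 * g2 * g5]

/-- Their words. -/
def pgW : Fin 6 → List ℕ :=
  ![[EndData.g0Code], [EndData.g1Code], [EndData.g2Code], [EndData.g3Code],
    [EndData.g4Code] ++ [EndData.g4Code], [EndData.g5Code] ++ [EndData.g2Code] ++ [EndData.g5Code]]

theorem pw_pgen (s : Fin 6) : PW (pgen s) (pgW s) := by
  fin_cases s
  exacts [pw_g0, pw_g1, pw_g2, pw_g3, pw_g4.mul pw_g4, (pw_g5.mul pw_g2).mul pw_g5]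

/-- The 2-core of the centraliser. -/
noncomputable def Pc : Subgroup GT := closure (Set.range pgen)

/-- The element of order three. -/
noncomputable def aM : GT := g0 * g4 * g5

theorem pw_aM : PW aM ([EndData.g0Code] ++ [EndData.g4Code] ++ [EndData.g5Code]) :=
  (pw_g0.mul pw_g4).mul pw_g5

/-- An element commuting with `eM` and moving `tM` into the 2-core. -/
noncomputable def hM : GT := nM * g5 * nM * g3 * nM

theorem pw_hM : PW hM ([Data.nMCode] ++ [EndData.g5Code] ++ [Data.nMCode] ++ [EndData.g3Code] ++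
    [Data.nMCode]) :=
  (((pw_nM.mul pw_g5).mul pw_nM).mul pw_g3).mul pw_nM

/-- The code of an element of the 2-core. -/
def core (j : ℕ) : ℕ := EndData.coreCodes.getD j 0

/-! ### The elements of the 2-core -/

theorem core_zero : eqW [] [core 0] = true := by decide +kernel

theorem core_step : ∀ (j : Fin 64) (s : Fin 6),
    ((List.range 64).any fun l => eqW ([core j] ++ pgW s) [core l]) = true := by decide +kernel

theorem core_reach : ∀ j : Fin 64, j.val = 0 ∨ ((EndData.corePar.getD j (0, 0)).1 < j.val ∧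
    ∃ h : (EndData.corePar.getD j (0, 0)).2 < 6,
      eqW ([core (EndData.corePar.getD j (0, 0)).1] ++ pgW ⟨_, h⟩) [core j] = true) := by
  decide +kernel

theorem core_distinct : ∀ i j : Fin 64, i = j ∨ eqW [core i] [core j] = false := by decide +kernel

theorem exists_core (j : ℕ) (hj : j < 64) : ∃ p ∈ Pc, PW p [core j] := by
  induction j using Nat.strong_induction_on with
  | _ j ih =>
    rcases core_reach ⟨j, hj⟩ with e | ⟨hlt, h6, he⟩
    · obtain rfl : j = 0 := e
      exact ⟨1, one_mem _, PW.one.congr core_zero⟩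
    · obtain ⟨p, hp, hpw⟩ := ih _ hlt (lt_trans hlt hj)
      exact ⟨_, mul_mem hp (subset_closure ⟨⟨_, h6⟩, rfl⟩), (hpw.mul (pw_pgen _)).congr he⟩

/-- An element of the 2-core. -/
noncomputable def pel (j : Fin 64) : GT := (exists_core j j.2).choose

theorem pel_mem (j : Fin 64) : pel j ∈ Pc := (exists_core j j.2).choose_spec.1

theorem pw_pel (j : Fin 64) : PW (pel j) [core j] := (exists_core j j.2).choose_spec.2

theorem mem_Pc_iff {p : GT} : p ∈ Pc ↔ ∃ j, p = pel j := by
  refine ⟨fun hp => ?_, fun ⟨j, e⟩ => e ▸ pel_mem j⟩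
  have := Sporadic.Conway.ThreeOut.finite_GT
  rw [Pc, ← Subgroup.mem_toSubmonoid, Subgroup.closure_toSubmonoid_of_finite] at hp
  suffices ∀ i, ∃ j, pel i * p = pel j by
    obtain ⟨j, hj⟩ := this 0
    refine ⟨j, ?_⟩
    rwa [((pw_pel 0).eq_iff PW.one).2 (by decide +kernel), one_mul] at hj
  induction hp using Submonoid.closure_induction with
  | mem x hx =>
    obtain ⟨s, rfl⟩ := hx
    intro i
    obtain ⟨l, hl, he⟩ := List.any_eq_true.1 (core_step i s)
    exact ⟨⟨l, List.mem_range.1 hl⟩, (((pw_pel i).mul (pw_pgen s)).eq_iff (pw_pel _)).2 he⟩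
  | one => exact fun i => ⟨i, mul_one _⟩
  | mul x y _ _ ihx ihy =>
    intro i
    obtain ⟨j, hj⟩ := ihx i
    obtain ⟨l, hl⟩ := ihy j
    exact ⟨l, by rw [← mul_assoc, hj, hl]⟩

theorem card_Pc : Nat.card Pc = 64 := by
  rw [← Nat.card_eq_of_bijective (fun j : Fin 64 => (⟨pel j, pel_mem j⟩ : Pc)) ⟨fun i j e => ?_,
    fun p => ?_⟩, Nat.card_fin]
  · by_contra hne
    exact (pw_pel i).ne (pw_pel j) ((core_distinct i j).resolve_left hne) (congrArg Subtype.val e)
  · obtain ⟨j, hj⟩ := mem_Pc_iff.1 p.2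
    exact ⟨j, Subtype.ext hj.symm⟩

/-! ### The four group and commutators -/

/-- The words of `1, tM, eM, tM * eM`. -/
def zW : List (List ℕ) := [[], [Data.tMCode], [Data.eMCode], [Data.tMCode] ++ [Data.eMCode]]

/-- The words of `1, eM`. -/
def uW : List (List ℕ) := [[], [Data.eMCode]]

theorem mem_four {g : GT} {w : List ℕ} (hg : PW g w) :
    g ∈ ({1, tM, eM, tM * eM} : Set GT) ↔ zW.any (eqW w) = true := by
  simp only [Set.mem_insert_iff, Set.mem_singleton_iff, hg.eq_iff PW.one, hg.eq_iff pw_tM,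
    hg.eq_iff pw_eM, hg.eq_iff (pw_tM.mul pw_eM), zW, List.any_cons, List.any_nil, Bool.or_false,
    Bool.or_eq_true]

/-- The commutator of two words lies in a list of words. -/
def commIn (Z : List (List ℕ)) (v w : List ℕ) : Bool := Z.any fun z => eqW (v ++ w) (z ++ w ++ v)

theorem comm_eq_iff {p q : GT} {v w z' : List ℕ} {z : GT} (hp : PW p v) (hq : PW q w) (hz : PW z z') :
    p * q * p⁻¹ * q⁻¹ = z ↔ eqW (v ++ w) (z' ++ w ++ v) = true := by
  rw [mul_inv_eq_iff_eq_mul, mul_inv_eq_iff_eq_mul, (hp.mul hq).eq_iff ((hz.mul hq).mul hp)]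

theorem comm_mem_four {p q : GT} {v w : List ℕ} (hp : PW p v) (hq : PW q w) :
    p * q * p⁻¹ * q⁻¹ ∈ ({1, tM, eM, tM * eM} : Set GT) ↔ commIn zW v w = true := by
  simp only [Set.mem_insert_iff, Set.mem_singleton_iff, comm_eq_iff hp hq PW.one,
    comm_eq_iff hp hq pw_tM, comm_eq_iff hp hq pw_eM, comm_eq_iff hp hq (pw_tM.mul pw_eM), commIn, zW,
    List.any_cons, List.any_nil, Bool.or_false, Bool.or_eq_true]

theorem comm_mem_two {p q : GT} {v w : List ℕ} (hp : PW p v) (hq : PW q w) :
    p * q * p⁻¹ * q⁻¹ ∈ ({1, eM} : Set GT) ↔ commIn uW v w = true := by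
  simp only [Set.mem_insert_iff, Set.mem_singleton_iff, comm_eq_iff hp hq PW.one,
    comm_eq_iff hp hq pw_eM, commIn, uW, List.any_cons, List.any_nil, Bool.or_false, Bool.or_eq_true]

/-! ### Checks -/

theorem four_mul : ∀ z ∈ zW, ∀ z' ∈ zW, zW.any (eqW (z ++ z')) = true := by decide +kernel

theorem sq_ok : ∀ j : Fin 64, zW.any (eqW ([core j] ++ [core j])) = true := by decide +kernel

theorem comm_ok : ∀ (j : Fin 64) (s : Fin 6), commIn zW [core j] (pgW s) = true := by decide +kernel

theorem centre_ok : ∀ j : Fin 64, zW.any (eqW [core j]) = true ∨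
    ∃ s : Fin 6, commIn uW [core j] (pgW s) = false := by decide +kernel

theorem fix_ok : ∀ j : Fin 64, zW.any (eqW [core j]) = true ∨
    commIn uW ([EndData.g0Code] ++ [EndData.g4Code] ++ [EndData.g5Code]) [core j] = false := by
  decide +kernel

theorem kgen_commutes : ∀ s : Fin 6,
    eqW ([Data.tMCode] ++ kW s) (kW s ++ [Data.tMCode]) = true ∧
      eqW ([Data.eMCode] ++ kW s) (kW s ++ [Data.eMCode]) = true := by decide +kernel

theorem norm_ok : ∀ i s : Fin 6,
    ((List.range 64).any fun l => eqW (kW i ++ pgW s) ([core l] ++ kW i)) = true := by decide +kernel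

/-- The words of six representatives of the cosets of the 2-core. -/
def repW : Fin 6 → List ℕ :=
  let a := [EndData.g0Code] ++ [EndData.g4Code] ++ [EndData.g5Code]
  ![[], a, a ++ a, [EndData.g4Code], [EndData.g4Code] ++ a, [EndData.g4Code] ++ (a ++ a)]

/-- Six representatives of the cosets of the 2-core. -/
noncomputable def rep : Fin 6 → GT := ![1, aM, aM * aM, g4, g4 * aM, g4 * (aM * aM)]

theorem pw_rep (i : Fin 6) : PW (rep i) (repW i) := by
  fin_cases i
  exacts [PW.one, pw_aM, pw_aM.mul pw_aM, pw_g4, pw_g4.mul pw_aM, pw_g4.mul (pw_aM.mul pw_aM)]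

theorem rep_ok : ∀ i i' : Fin 6, i = i' ∨
    ∀ j : Fin 64, eqW (repW i ++ [core j]) (repW i') = false := by decide +kernel

/-! ### The centraliser -/

theorem mem_K1_iff {g : GT} : g ∈ K1 ↔ tM * g = g * tM ∧ eM * g = g * eM := by
  rw [Subgroup.mem_centralizer_iff]
  constructor
  · exact fun h => ⟨h _ (Or.inl rfl), h _ (Or.inr rfl)⟩
  · rintro ⟨h1, h2⟩ y (rfl | rfl)
    exacts [h1, h2]

theorem kgen_mem (s : Fin 6) : kgen s ∈ K1 :=
  mem_K1_iff.2 ⟨((pw_tM.mul (pw_kgen s)).eq_iff ((pw_kgen s).mul pw_tM)).2 (kgen_commutes s).1,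
    ((pw_eM.mul (pw_kgen s)).eq_iff ((pw_kgen s).mul pw_eM)).2 (kgen_commutes s).2⟩

theorem g_mem_closure : g0 ∈ closure (Set.range kgen) ∧ g1 ∈ closure (Set.range kgen) ∧
    g2 ∈ closure (Set.range kgen) ∧ g3 ∈ closure (Set.range kgen) ∧ g4 ∈ closure (Set.range kgen) ∧
    g5 ∈ closure (Set.range kgen) := by
  have h : ∀ s, kgen s ∈ (closure (Set.range kgen) : Subgroup GT) := fun s =>
    subset_closure (Set.mem_range_self s)
  exact ⟨h 0, h 1, h 2, h 3, h 4, h 5⟩

theorem Pc_le_closure : Pc ≤ closure (Set.range kgen) := by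
  obtain ⟨h0, h1, h2, h3, h4, h5⟩ := g_mem_closure
  rw [Pc, closure_le, Set.range_subset_iff]
  intro s
  rw [SetLike.mem_coe]
  fin_cases s
  · show g0 ∈ _; exact h0
  · show g1 ∈ _; exact h1
  · show g2 ∈ _; exact h2
  · show g3 ∈ _; exact h3
  · show g4 * g4 ∈ _; exact mul_mem h4 h4
  · show g5 * g2 * g5 ∈ _; exact mul_mem (mul_mem h5 h2) h5

theorem closure_kgen (hF : ModelFacts) : closure (Set.range kgen) = K1 := by
  have := Sporadic.Conway.ThreeOut.finite_GT
  have hle : closure (Set.range kgen) ≤ K1 := (closure_le _).2 (Set.range_subset_iff.2 kgen_mem)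
  refine eq_of_le_of_card_ge hle ?_
  have h : ∀ s, kgen s ∈ closure (Set.range kgen) := fun s => subset_closure ⟨s, rfl⟩
  have ha : aM ∈ closure (Set.range kgen) := mul_mem (mul_mem (h 0) (h 4)) (h 5)
  have hr : ∀ i, rep i ∈ closure (Set.range kgen) := fun i => by
    fin_cases i
    exacts [one_mem _, ha, mul_mem ha ha, h 4, mul_mem (h 4) ha, mul_mem (h 4) (mul_mem ha ha)]
  have hinj : Function.Injective (fun x : Fin 6 × Pc =>
      (⟨rep x.1 * x.2, mul_mem (hr x.1) (Pc_le_closure x.2.2)⟩ : closure (Set.range kgen))) := by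
    rintro ⟨i, p⟩ ⟨i', p'⟩ e
    replace e : rep i * (p : GT) = rep i' * p' := congrArg Subtype.val e
    obtain rfl : i = i' := by
      by_contra hne
      obtain ⟨j, hj⟩ := mem_Pc_iff.1 (mul_mem p.2 (inv_mem p'.2))
      refine ((pw_rep i).mul (pw_pel j)).ne (pw_rep i') ((rep_ok i i').resolve_left hne j) ?_
      rw [← hj, ← mul_assoc, e, mul_inv_cancel_right]
    rw [Subtype.ext (mul_left_cancel e)]
  have h1 := Nat.card_le_card_of_injective _ hinj
  rw [Nat.card_prod, Nat.card_fin, card_Pc] at h1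
  rw [hF.card_K1]
  exact h1

/-- The facts about the centraliser of `tM` and `eM`. -/
theorem endFacts (hF : ModelFacts) : EndFacts := by
  refine ⟨Pc, aM, g4, hM, fun hsw => ?_⟩
  have := Sporadic.Conway.ThreeOut.finite_GT
  have hle : Pc ≤ K1 := Pc_le_closure.trans (closure_kgen hF).le
  have hzc : ∀ z ∈ ({1, tM, eM, tM * eM} : Set GT), ∀ q ∈ Pc, q * z * q⁻¹ = z := by
    intro z hz q hq
    obtain ⟨h1, h2⟩ := mem_K1_iff.1 (hle hq)
    rw [mul_inv_eq_iff_eq_mul]
    rcases hz with e | e | e | e <;> rw [e]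
    · simp
    · exact h1.symm
    · exact h2.symm
    · rw [← mul_assoc, ← h1, mul_assoc, ← h2, mul_assoc]
  have hwz : ∀ z ∈ ({1, tM, eM, tM * eM} : Set GT), ∃ w ∈ zW, PW z w := by
    intro z hz
    rcases hz with e | e | e | e <;> rw [e]
    exacts [⟨_, by simp [zW], PW.one⟩, ⟨_, by simp [zW], pw_tM⟩, ⟨_, by simp [zW], pw_eM⟩,
      ⟨_, by simp [zW], pw_tM.mul pw_eM⟩]
  exact
    { card_cent := hF.card_K1
      ord_t := hF.order_tM
      ord_u := hF.order_eM
      comm := ((pw_tM.mul pw_eM).eq_iff (pw_eM.mul pw_tM)).2 (by decide +kernel)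
      ne := hF.eM_ne.symm
      no_swap := hsw
      le := hle
      card_P := card_Pc
      norm := by
        intro c hc p hp
        replace hc : c ∈ closure (Set.range kgen) := (closure_kgen hF).ge hc
        rw [← Subgroup.mem_toSubmonoid, Subgroup.closure_toSubmonoid_of_finite] at hc
        induction hc using Submonoid.closure_induction generalizing p with
        | mem x hx =>
          obtain ⟨i, rfl⟩ := hx
          refine (show Pc ≤ Pc.comap (MulAut.conj (kgen i)).toMonoidHom from (closure_le _).2 ?_) hp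
          rintro _ ⟨s, rfl⟩
          show kgen i * pgen s * (kgen i)⁻¹ ∈ Pc
          obtain ⟨l, hl, he⟩ := List.any_eq_true.1 (norm_ok i s)
          rw [mul_inv_eq_iff_eq_mul.2 ((((pw_kgen i).mul (pw_pgen s)).eq_iff
            ((pw_pel ⟨l, List.mem_range.1 hl⟩).mul (pw_kgen i))).2 he)]
          exact pel_mem _
        | one => rwa [one_mul, inv_one, mul_one]
        | mul x y _ _ ihx ihy =>
          rw [show x * y * p * (x * y)⁻¹ = x * (y * p * y⁻¹) * x⁻¹ by group]
          exact ihx _ (ihy p hp)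
      t_mem := mem_Pc_iff.2 (by
        obtain ⟨l, hl, he⟩ := List.any_eq_true.1 (show ((List.range 64).any fun l =>
          eqW [Data.tMCode] [core l]) = true by decide +kernel)
        exact ⟨⟨l, List.mem_range.1 hl⟩, (pw_tM.eq_iff (pw_pel _)).2 he⟩)
      u_mem := mem_Pc_iff.2 (by
        obtain ⟨l, hl, he⟩ := List.any_eq_true.1 (show ((List.range 64).any fun l =>
          eqW [Data.eMCode] [core l]) = true by decide +kernel)
        exact ⟨⟨l, List.mem_range.1 hl⟩, (pw_eM.eq_iff (pw_pel _)).2 he⟩)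
      sq := by
        intro p hp
        obtain ⟨j, rfl⟩ := mem_Pc_iff.1 hp
        exact (mem_four ((pw_pel j).mul (pw_pel j))).2 (sq_ok j)
      comm_mem := by
        intro p hp q hq
        obtain ⟨j, rfl⟩ := mem_Pc_iff.1 hp
        have hq' := hq
        rw [Pc, ← Subgroup.mem_toSubmonoid, Subgroup.closure_toSubmonoid_of_finite] at hq'
        induction hq' using Submonoid.closure_induction with
        | mem x hx =>
          obtain ⟨s, rfl⟩ := hx
          exact (comm_mem_four (pw_pel j) (pw_pgen s)).2 (comm_ok j s)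
        | one => exact Or.inl (by group)
        | mul x y hx hy ihx ihy =>
          have hmem : ∀ {w : GT}, w ∈ Submonoid.closure (Set.range pgen) → w ∈ Pc := fun hw => by
            rw [Pc, ← Subgroup.mem_toSubmonoid, Subgroup.closure_toSubmonoid_of_finite]
            exact hw
          have h1 := ihx (hmem hx)
          have h2 := ihy (hmem hy)
          rw [show pel j * (x * y) * (pel j)⁻¹ * (x * y)⁻¹ = pel j * x * (pel j)⁻¹ * x⁻¹ *
            (x * (pel j * y * (pel j)⁻¹ * y⁻¹) * x⁻¹) by group, hzc _ h2 _ (hmem hx)]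
          obtain ⟨v, hv, hpv⟩ := hwz _ h1
          obtain ⟨w, hw, hpw⟩ := hwz _ h2
          exact (mem_four (hpv.mul hpw)).2 (four_mul v hv w hw)
      centre := by
        intro p hp hcp
        obtain ⟨j, rfl⟩ := mem_Pc_iff.1 hp
        rcases centre_ok j with e | ⟨s, e⟩
        · exact (mem_four (pw_pel j)).2 e
        · have h := (comm_mem_two (pw_pel j) (pw_pgen s)).1 (hcp _ (subset_closure ⟨s, rfl⟩))
          rw [e] at h
          exact Bool.noConfusion h
      nonab := ⟨pgen 1, subset_closure ⟨1, rfl⟩, pgen 4, subset_closure ⟨4, rfl⟩, fun h =>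
        absurd ((comm_mem_two (pw_pgen 1) (pw_pgen 4)).1 h) (by decide +kernel)⟩
      a_mem := mul_mem (mul_mem (kgen_mem 0) (kgen_mem 4)) (kgen_mem 5)
      a_cube := by
        rw [pow_succ, pow_two]
        exact (((pw_aM.mul pw_aM).mul pw_aM).eq_iff PW.one).2 (by decide +kernel)
      a_notMem := fun h => by
        obtain ⟨j, hj⟩ := mem_Pc_iff.1 h
        exact pw_aM.ne (pw_pel j) ((show ∀ j : Fin 64, eqW ([EndData.g0Code] ++ [EndData.g4Code] ++
          [EndData.g5Code]) [core j] = false by decide +kernel) j) hj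
      k_mem := kgen_mem 4
      k_a := fun h => by
        obtain ⟨j, hj⟩ := mem_Pc_iff.1 h
        rw [mul_inv_eq_iff_eq_mul, mul_inv_eq_iff_eq_mul] at hj
        exact (pw_g4.mul pw_aM).ne (((pw_pel j).mul pw_aM).mul pw_g4) ((show ∀ j : Fin 64,
          eqW ([EndData.g4Code] ++ ([EndData.g0Code] ++ [EndData.g4Code] ++ [EndData.g5Code]))
            ([core j] ++ ([EndData.g0Code] ++ [EndData.g4Code] ++ [EndData.g5Code]) ++
              [EndData.g4Code]) = false by decide +kernel) j) hj
      fix := by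
        intro p hp hap
        obtain ⟨j, rfl⟩ := mem_Pc_iff.1 hp
        rcases fix_ok j with e | e
        · exact (mem_four (pw_pel j)).2 e
        · have h := (comm_mem_two pw_aM (pw_pel j)).1 hap
          rw [e] at h
          exact Bool.noConfusion h
      h_comm := ((pw_hM.mul pw_eM).eq_iff (pw_eM.mul pw_hM)).2 (by decide +kernel)
      h_mem := mem_Pc_iff.2 (by
        obtain ⟨l, hl, he⟩ := List.any_eq_true.1 (show ((List.range 64).any fun l =>
          eqW ([Data.nMCode] ++ [EndData.g5Code] ++ [Data.nMCode] ++ [EndData.g3Code] ++ [Data.nMCode] ++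
            [Data.tMCode]) ([core l] ++ ([Data.nMCode] ++ [EndData.g5Code] ++ [Data.nMCode] ++
              [EndData.g3Code] ++ [Data.nMCode]))) = true by decide +kernel)
        exact ⟨⟨l, List.mem_range.1 hl⟩, mul_inv_eq_iff_eq_mul.2
          (((pw_hM.mul pw_tM).eq_iff ((pw_pel _).mul pw_hM)).2 he)⟩)
      h_ne := fun h => by
        obtain ⟨w, hw, hpw⟩ := hwz _ h
        have e := ((pw_hM.mul pw_tM).eq_iff (hpw.mul pw_hM)).1 (by group)
        exact absurd e (Bool.eq_false_iff.1 ((show ∀ z ∈ zW,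
          eqW ([Data.nMCode] ++ [EndData.g5Code] ++ [Data.nMCode] ++ [EndData.g3Code] ++ [Data.nMCode] ++
            [Data.tMCode]) (z ++ ([Data.nMCode] ++ [EndData.g5Code] ++ [Data.nMCode] ++
              [EndData.g3Code] ++ [Data.nMCode])) = false by decide +kernel) w hw)) }

end CfsgLib.CoThreeUnique.EndProof
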